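import Cfsg.Agent.StdSz.Fin
import Cfsg.Agent.StdU3.Red
import Cfsg.Agent.Local.StronglyEmbTwo

/-!
# Standard subgroups of type `U₃(2ⁿ)`: two recognition theorems for simple groups
-/

set_option autoImplicit false

namespace Cfsg.Lib.StdU3

open Subgroup Cfsg.Lib.Chev Cfsg.Lib.Gold Cfsg.Lib.Trans Cfsg.Lib.StdSz

/-- A strongly closed abelian subgroup meeting a simple normal subgroup. -/
theorem se_of_sc {G : Type*} [Group G] [Finite G] {X : Subgroup G} [X.Normal] [IsSimpleGroup X]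
    (S : Sylow 2 G) (B : Subgroup G) (hB : ∀ b ∈ B, b * b = 1)
    (hsc : IsStronglyClosed B (S : Subgroup G)) {a x y : G} (ha : a ∈ B) (haX : a ∈ X) (ha1 : a ≠ 1)
    (hx : x ∈ (S : Subgroup G)) (hy : y ∈ (S : Subgroup G)) (hxX : x ∈ X) (hyX : y ∈ X)
    (hxy : x * y ≠ y * x) : Bender.IsBender X ∧
      ∀ u ∈ X, u * u = 1 → u ≠ 1 → ∃ g : G, g * a * g⁻¹ = u := by
  have : Fact (Nat.Prime 2) := ⟨Nat.prime_two⟩
  let S' : Sylow 2 X := (isSylowIn_inf_of_normal S X).toSylow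
  have hS' : ∀ g : X, g ∈ (S' : Subgroup X) ↔ (g : G) ∈ (S : Subgroup G) := fun g =>
    ⟨fun h => h.1, fun h => ⟨h, g.2⟩⟩
  have hne : B.subgroupOf X ≠ ⊥ := fun h => by
    have : (⟨a, haX⟩ : X) ∈ B.subgroupOf X := ha
    rw [h, mem_bot] at this
    exact ha1 (congrArg Subtype.val this)
  have hc : IsMulCommutative (B.subgroupOf X) :=
    (elem_of_sq fun b hb => Subtype.ext (hB _ hb)).1
  have hsc' : IsStronglyClosed (B.subgroupOf X) (S' : Subgroup X) :=
    ⟨fun g hg => (hS' g).2 (hsc.1 hg), fun u hu g hg => hsc.2 u hu g ((hS' _).1 hg)⟩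
  rcases Cfsg.Agent.S1169.result S' _ hne hc hsc' with h | ⟨H, hH⟩
  · exact absurd (congrArg (fun z : (S' : Subgroup X) => ((z : X) : G))
      (h.is_comm.comm ⟨⟨x, hxX⟩, (hS' _).2 hx⟩ ⟨⟨y, hyX⟩, (hS' _).2 hy⟩)) hxy
  have hH' := Local.isStronglyEmbedded_iff_se.1 hH
  refine ⟨((Bender.core_of_gate X).simple hH').1, fun u hu h2 h1 => ?_⟩
  obtain ⟨g, hg⟩ := isConj_iff.1 (hH'.isConj_involutions (a := ⟨a, haX⟩) (b := ⟨u, hu⟩)
    (by rw [Subgroup.orderOf_mk]; exact orderOf_two_of (hB a ha) ha1)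
    (by rw [Subgroup.orderOf_mk]; exact orderOf_two_of h2 h1))
  exact ⟨g, congrArg Subtype.val hg⟩

/-- The simple-group form of the `AB` theorem. -/
theorem ab_cases {X : Type*} [Group X] [Finite X] [IsSimpleGroup X] (S : Sylow 2 X)
    (A B : Subgroup X) (hA : A ≤ S) (hB : B ≤ S) (hA2 : ∀ a ∈ A, a * a = 1)
    (hB2 : ∀ b ∈ B, b * b = 1) (hAB : ∀ x ∈ (S : Subgroup X), ∃ a ∈ A, ∃ b ∈ B, x = a * b)
    (hI : ∀ x ∈ (S : Subgroup X), x * x = 1 → x ∈ A ∨ x ∈ B) {u : X} (hu : u ∈ (S : Subgroup X))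
    (hu2 : u * u ≠ 1) (hidx : A.relIndex S ≠ 2) :
    ∃ (F : Type) (_ : Field F) (_ : Fintype F), Fintype.card F = A.relIndex S ∧
      (Nonempty (X ≃* Matrix.ProjectiveSpecialLinearGroup (Fin 3) F) ∨
        Nonempty (X ≃* PSp 2 F)) := by
  have : Fact (Nat.Prime 2) := ⟨Nat.prime_two⟩
  have nAB : ¬ A ≤ B := fun h => by
    obtain ⟨a, ha, b, hb, rfl⟩ := hAB u hu
    exact hu2 (hB2 _ (B.mul_mem (h ha) hb))
  have nBA : ¬ B ≤ A := fun h => by
    obtain ⟨a, ha, b, hb, rfl⟩ := hAB u hu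
    exact hu2 (hA2 _ (A.mul_mem ha (h hb)))
  let A₁ := A.subgroupOf S
  let B₁ := B.subgroupOf S
  have n1 : ¬ A₁ ≤ B₁ := fun h => nAB fun a ha => h (x := ⟨a, hA ha⟩) ha
  have n2 : ¬ B₁ ≤ A₁ := fun h => nBA fun a ha => h (x := ⟨a, hB ha⟩) ha
  have e1 : IsElementaryAbelian 2 A₁ := elem_of_sq fun a ha => Subtype.ext (hA2 _ ha)
  have e2 : IsElementaryAbelian 2 B₁ := elem_of_sq fun a ha => Subtype.ext (hB2 _ ha)
  have hC : ∀ C : Subgroup (S : Subgroup X), IsElementaryAbelian 2 C → C ≤ A₁ ∨ C ≤ B₁ :=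
    fun C h => le_or_le_of_forall fun c hc => hI _ c.2 (by
      have := congrArg Subtype.val (h.2 c hc)
      rwa [sq] at this)
  have mA : A₁.map (S : Subgroup X).subtype = A := by
    rw [subgroupOf_map_subtype, inf_of_le_left hA]
  have mB : B₁.map (S : Subgroup X).subtype = B := by
    rw [subgroupOf_map_subtype, inf_of_le_left hB]
  have hsyl : ∀ C : Subgroup X, C ≤ S → C ≠ ⊥ → (∀ c ∈ C, c * c = 1) →
      ∀ P : Sylow 2 (normalClosure (C : Set X)),
        (P : Subgroup (normalClosure (C : Set X))).map (normalClosure (C : Set X)).subtype ≠ C := by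
    intro C hCS hC0 hC2 P hP
    have hs := isSylowIn_map_subtype P
    rw [hP] at hs
    have ht : normalClosure (C : Set X) = ⊤ :=
      (IsSimpleGroup.eq_bot_or_eq_top_of_normal _ inferInstance).resolve_left fun h =>
        hC0 (le_bot_iff.1 (h ▸ le_normalClosure))
    rw [ht] at hs
    have := hs.eq_of_le S.isPGroup' hCS le_top
    exact hu2 (hC2 _ (this ▸ hu))
  rcases Cfsg.Agent.S3187.result S A₁ B₁ (fun h => n1 h.le)
    ⟨e1, fun C h hle => le_antisymm ((hC C h).resolve_right fun h' => n1 (hle.trans h')) hle⟩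
    ⟨e2, fun C h hle => le_antisymm ((hC C h).resolve_left fun h' => n2 (hle.trans h')) hle⟩
    (fun C h hm => (hC C h).imp (fun h' => (hm _ e1 h').symm) fun h' => (hm _ e2 h').symm)
    (fun s => by
      obtain ⟨a, ha, b, hb, h⟩ := hAB s s.2
      exact ⟨⟨a, hA ha⟩, ha, ⟨b, hB hb⟩, hb, Subtype.ext h.symm⟩)
    A B mA.symm mB.symm with h | ⟨P, hP⟩ | ⟨P, hP⟩ | ⟨-, Y, hY, K, L, hKL, hsup, hK, hL, F, _, _, hF, h⟩
  · exact absurd h.1 hidx
  · exact absurd hP (hsyl A hA (fun h => nAB (h ▸ bot_le)) hA2 P)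
  · exact absurd hP (hsyl B hB (fun h => nBA (h ▸ bot_le)) hB2 P)
  obtain ⟨k, hk⟩ := IsPGroup.iff_orderOf.1 S.isPGroup' ⟨u, hu⟩
  rw [Subgroup.orderOf_mk] at hk
  have hYt : Y = ⊤ := by
    have hn : Y.Normal := by
      rw [hY]
      refine ⟨fun n hn g => ?_⟩
      have : (closure {g : X | ∃ k : ℕ, orderOf g = 2 ^ k}).map (MulAut.conj g).toMonoidHom ≤
          closure {g : X | ∃ k : ℕ, orderOf g = 2 ^ k} := by
        rw [MonoidHom.map_closure]
        refine closure_mono ?_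
        rintro _ ⟨z, ⟨j, hj⟩, rfl⟩
        exact ⟨j, by rw [← hj]; exact (MulAut.conj g).orderOf_eq z⟩
      exact this ⟨n, hn, rfl⟩
    refine (IsSimpleGroup.eq_bot_or_eq_top_of_normal _ hn).resolve_left fun h => hu2 ?_
    have : u ∈ Y := hY ▸ subset_closure ⟨k, hk⟩
    rw [h, mem_bot] at this
    rw [this, mul_one]
  clear hY
  subst hYt
  have hsT : IsSimpleGroup (⊤ : Subgroup X) := topEquiv.isSimpleGroup
  have hev : Even (Nat.card (⊤ : Subgroup X)) := by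
    rw [card_top]
    refine even_iff_two_dvd.2 (Dvd.dvd.trans ?_ (orderOf_dvd_natCard u))
    rw [hk]
    refine dvd_pow_self 2 fun h => hu2 ?_
    rw [h, pow_zero, orderOf_eq_one_iff] at hk
    rw [hk, mul_one]
  have hO := Bender.oddCore_eq_bot_of_simple hev
  let e : X ≃* (⊤ : Subgroup X) ⧸ oddCore (⊤ : Subgroup X) :=
    topEquiv.symm.trans ((QuotientGroup.quotientMulEquivOfEq hO).trans QuotientGroup.quotientBot).symm
  have hsQ : IsSimpleGroup ((⊤ : Subgroup X) ⧸ oddCore (⊤ : Subgroup X)) := e.symm.isSimpleGroup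
  have hLn : L.Normal := by
    rw [← normalizer_eq_top_iff, eq_top_iff, ← hsup]
    refine sup_le (fun a ha => mem_Ns fun l hl => ?_) le_normalizer
    rw [hKL a ha l hl, mul_inv_cancel_right]
    exact hl
  have hLt : L = ⊤ := by
    refine (IsSimpleGroup.eq_bot_or_eq_top_of_normal _ hLn).resolve_left fun h => hu2 ?_
    rw [h, sup_bot_eq] at hsup
    have hm : e u ∈ K := hsup ▸ mem_top _
    have h2 : IsPGroup 2 (zpowers (⟨e u, hm⟩ : K)) :=
      IsPGroup.of_card (n := k) (by rw [Nat.card_zpowers, Subgroup.orderOf_mk, e.orderOf_eq, hk])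
    obtain ⟨P, hP⟩ := h2.exists_le_sylow
    have := congrArg Subtype.val ((hK P).2 _ (hP (mem_zpowers _)))
    apply e.injective
    rw [map_mul, map_one, ← sq]
    exact this
  subst hLt
  have hsL : IsSimpleGroup (⊤ : Subgroup ((⊤ : Subgroup X) ⧸ oddCore (⊤ : Subgroup X))) :=
    topEquiv.isSimpleGroup
  have hZ : center (⊤ : Subgroup ((⊤ : Subgroup X) ⧸ oddCore (⊤ : Subgroup X))) = ⊥ := by
    refine (IsSimpleGroup.eq_bot_or_eq_top_of_normal _ inferInstance).resolve_right fun h => ?_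
    have h1 := hL.commutator_eq_top
    rw [(commutator_eq_bot_iff_center_eq_top _).2 h] at h1
    exact bot_ne_top h1
  let e' := e.trans (topEquiv.symm.trans
    ((QuotientGroup.quotientMulEquivOfEq hZ).trans QuotientGroup.quotientBot).symm)
  exact ⟨F, inferInstance, inferInstance, hF, h.imp (fun ⟨e₁⟩ => ⟨e'.trans e₁⟩)
    fun ⟨e₁⟩ => ⟨e'.trans e₁⟩⟩

end Cfsg.Lib.StdU3
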