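import Cfsg.Agent.StdU3.Lev1A
import Cfsg.Agent.StdU3.ReflA

/-!
# Standard subgroups of type `U₃(2ⁿ)`: the action on the singular points of the first level
-/

set_option autoImplicit false

namespace Cfsg.Lib.StdU3

open Subgroup Cfsg.Lib.Gold Cfsg.Lib.Trans Cfsg.Lib.StdSz
open scoped commutatorElement

variable {G : Type*} [Group G] {F K : Type*} [Field F] [Field K] [Algebra F K] {τ : Qx F K}

/-- Representatives of the singular points of `N a + x p`. -/
def vec (τ : Qx F K) : Option K → K × F × F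
  | none => (0, 0, 1)
  | some k => (k, 1, τ.N k)

open Classical in
/-- The point of a singular vector. -/
noncomputable def pt (u : K × F × F) : Option K :=
  if u.2.1 = 0 then none else some (u.2.1⁻¹ • u.1)

theorem pt_vec {c : F} (hc : c ≠ 0) (a : Option K) : pt (c • vec τ a) = a := by
  cases a <;> simp [pt, vec, hc]

theorem pt_eq {u : K × F × F} {k : K} (h : u.2.1 ≠ 0) (e : u.1 = u.2.1 • k) : pt u = some k := by
  rw [pt, if_neg h, e, inv_smul_smul₀ h]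

theorem exists_vec {u : K × F × F} (h : τ.N u.1 + u.2.1 * u.2.2 = 0) (h0 : u ≠ 0) :
    ∃ c : F, c ≠ 0 ∧ u = c • vec τ (pt u) := by
  obtain ⟨a, x, p⟩ := u
  by_cases hx : x = 0
  · subst hx
    obtain rfl : a = 0 := by simpa [τ.N_eq_zero] using h
    exact ⟨p, fun hp => h0 (by rw [hp]; rfl), by simp [pt, vec]⟩
  refine ⟨x, hx, ?_⟩
  have h1 : τ.N a = x * p := τ.add_eq_zeroF.1 h
  simp only [pt, vec, hx, if_false, Prod.smul_mk, smul_inv_smul₀ hx, smul_eq_mul, mul_one, τ.N_smul,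
    h1, Prod.mk.injEq, true_and]
  field_simp

theorem exists_fix_of_odd {α : Type*} [Finite α] (h : Odd (Nat.card α)) {f : α → α}
    (hf : ∀ a, f (f a) = a) : ∃ a, f a = a := by
  classical
  have := Fintype.ofFinite α
  have : Fact (Nat.Prime 2) := ⟨Nat.prime_two⟩
  have h1 := Equiv.Perm.card_fixedPoints_modEq (f := (f : Function.End α)) (p := 2) (n := 1)
    (funext hf)
  by_contra hn
  push Not at hn
  have : IsEmpty (Function.fixedPoints (f : Function.End α)) := ⟨fun a => hn a.1 a.2⟩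
  rw [Fintype.card_eq_zero (α := Function.fixedPoints _), ← Nat.card_eq_fintype_card] at h1
  exact (Nat.not_even_iff_odd.2 h) (even_iff_two_dvd.2 ((Nat.modEq_zero_iff_dvd).1 h1))

/-- Three consecutive multiples by an element of norm one lie on three different lines. -/
theorem Qx.exists_off (τ : Qx F K) {ω k d d' : K} (hω : τ.N ω = 1) (h1 : ω ≠ 1) (hk : k ≠ 0)
    (hd : d ≠ 0) (hd' : d' ≠ 0) : ∃ n : ℕ, τ.B d (ω ^ n * k) ≠ 0 ∧ τ.B d' (ω ^ n * k) ≠ 0 := by
  have hω0 : ω ≠ 0 := by rintro rfl; simp at hω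
  have key : ∀ d ≠ 0, ∀ k ≠ 0, ∀ m, τ.N m = 1 → m ≠ 1 → τ.B d k = 0 → τ.B d (m * k) ≠ 0 :=
    fun d hd k hk m hm hm1 h h' => by
      obtain ⟨x, rfl⟩ := (τ.B_eq_zero hd).1 h
      obtain ⟨y, hy⟩ := (τ.B_eq_zero hd).1 h'
      have hx : x ≠ 0 := by rintro rfl; simp at hk
      refine τ.Tr_ne_zero hm hm1 (τ.Tr_eq_zero.2 ⟨y / x, ?_⟩)
      rw [Algebra.smul_def, Algebra.smul_def, ← mul_assoc, mul_left_inj' hd] at hy
      rw [map_div₀, ← hy, mul_div_cancel_right₀ _ ((map_ne_zero _).2 hx)]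
  have h2 : ω * ω ≠ 1 := fun h => h1 ((mul_self_eq_one_iff.1 h).elim id fun h => h.trans (τ.negK 1))
  have hN : τ.N (ω * ω) = 1 := by rw [τ.N_mul, hω, one_mul]
  have a1 := fun d hd => key d hd k hk ω hω h1
  have a2 := fun d hd => key d hd k hk _ hN h2
  have a3 := fun d hd => key d hd _ (mul_ne_zero hω0 hk) ω hω h1
  simp only [← mul_assoc] at a3
  by_contra hn
  push Not at hn
  have b0 := hn 0
  have b1 := hn 1
  have b2 := hn 2
  rw [pow_zero, one_mul] at b0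
  rw [pow_one] at b1
  rw [pow_two] at b2
  have := a1 d hd; have := a1 d' hd'; have := a2 d hd; have := a2 d' hd'
  have := a3 d hd; have := a3 d' hd'
  tauto

namespace Lev1

variable {D : Dat G τ} (L : Lev1 D)

/-- All coordinates. -/
def π (g : G) : K × F × F := (L.al g, L.x g, L.p g)

theorem π_add : AddOn L.S L.π := fun x hx y hy =>
  Prod.ext (L.al_add x hx y hy) (Prod.ext (L.x_add x hx y hy) (L.p_add x hx y hy))

theorem π_ker {g : G} (hg : g ∈ L.S) (h : L.π g = 0) : g ∈ D.V :=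
  L.ker g hg (congrArg (·.1) h) (congrArg (·.2.1) h) (congrArg (·.2.2) h)

theorem π_Q {y : G} (hy : y ∈ D.Q) : L.π y = (D.α y, 0, 0) :=
  Prod.ext (L.al_Q y hy) (Prod.ext (L.x_Q y hy) (L.p_Q y hy))

theorem π_E {e : G} (he : e ∈ D.E) : L.π e = (0, L.x e, 0) :=
  Prod.ext (L.al_E e he) (Prod.ext rfl (L.p_E e he))

theorem π_H {h g : G} (hh : h ∈ D.H) (hg : g ∈ L.S) : L.π (h * g * h⁻¹) =
    (D.χ h * (L.π g).1, (L.π g).2.1, τ.N (D.χ h) * (L.π g).2.2) :=
  have ⟨_, h1, h2, h3⟩ := L.H_S h hh g hg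
  Prod.ext h1 (Prod.ext h2 h3)

variable [Finite F]

theorem mem_Q_of {g : G} (hg : g ∈ L.S) (h : (L.π g).2 = 0) : g ∈ D.Q := by
  obtain ⟨y, hy, e⟩ := D.α_surj (L.al g)
  have hy' := L.Q_le hy
  refine (mul_mem_cancel_left (inv_mem hy)).1 (D.V_le (L.π_ker (mul_mem (inv_mem hy') hg) ?_))
  rw [L.π_add _ (inv_mem hy') _ hg, L.π_add.inv hy', L.π_Q hy, e, neg_add_eq_zero]
  exact Prod.ext rfl h.symm

theorem S_le_Tr0 [Finite G] : L.S ≤ D.Tr0 := fun g hg =>
  have h := fun y (hy : y ∈ D.Q) => L.π_add.conj hg (L.Q_le hy)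
  have h' := fun y (hy : y ∈ D.Q) => L.mem_Q_of (mem_normalizer_conj (le_normalizer hg) (L.Q_le hy))
    (by rw [h y hy, L.π_Q hy]; rfl)
  ⟨mem_Ns h', fun y hy => by
    rw [← L.al_Q _ (h' y hy), ← L.al_Q y hy]; exact congrArg (·.1) (h y hy)⟩

theorem mem_Cs_iff {d : G} (hd : d ∈ L.S) : d ∈ Cs D.Q ↔ L.al d = 0 := by
  have h1 : ∀ y ∈ D.Q, Commute d y ↔ τ.B (L.al d) (D.α y) = 0 := fun y hy => by
    rw [← commutatorElement_eq_one_iff_commute, L.comm hd (L.Q_le hy), D.v_eq_one, L.al_Q y hy,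
      L.x_Q y hy, L.p_Q y hy, mul_zero, mul_zero, add_zero, add_zero]
  refine ⟨fun h0 => τ.eq_zero_of_B fun c => ?_,
    fun h0 => mem_Cs.2 fun y hy => (h1 y hy).2 (by simp [h0])⟩
  obtain ⟨y, hy, rfl⟩ := D.α_surj c
  exact (h1 y hy).1 (mem_Cs.1 h0 y hy)

/-- A conjugate of `t` in `E V` is conjugate into `E` under `S`. -/
theorem exists_term [Finite G] {g : G} (hg : g ∈ Ns L.S) (h1 : L.al (g * D.t * g⁻¹) = 0)
    (h2 : L.p (g * D.t * g⁻¹) = 0) : ∃ w ∈ L.S, L.al w = 0 ∧ w⁻¹ * g ∈ Ns D.E ∧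
      (L.x (g * D.t * g⁻¹) = 1 → Commute (w⁻¹ * g) D.t) := by
  have ht := mem_normalizer_conj hg L.t_mem
  obtain ⟨e, he, h3⟩ := L.x_range _ ht
  have he' := L.E_le he
  obtain ⟨b, hb⟩ := L.π_ker (mul_mem ht (inv_mem he')) (by
    rw [L.π_add _ ht _ (inv_mem he'), L.π_add.inv he', L.π_E he, add_neg_eq_zero]
    exact Prod.ext h1 (Prod.ext h3 h2))
  have h4 : L.x e ≠ 0 := fun h => D.not_conj_V D.t_mem D.t_ne g
    ⟨b, by rw [← hb, L.x_inj e he h, inv_one, mul_one]⟩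
  obtain ⟨w, hw, e1, e2, e3⟩ := L.surj (b / L.x e)
  have h5 : w⁻¹ * g * D.t * (w⁻¹ * g)⁻¹ = e := by
    have := L.conj_eq hw he'
    rw [e1, e2, e3, div_mul_cancel₀ _ h4, map_zero, LinearMap.zero_apply, zero_mul, zero_add,
      zero_add, ← hb, inv_mul_cancel_right] at this
    rw [show w⁻¹ * g * D.t * (w⁻¹ * g)⁻¹ = w⁻¹ * (g * D.t * g⁻¹) * w by group, ← this]
    group
  refine ⟨w, hw, e1, D.E_ti D.t_mem D.t_ne (h5 ▸ he), fun h => commute_of_conj_eq (h5.trans ?_)⟩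
  refine (eq_inv_of_mul_eq_one_left (L.x_inj _ (mul_mem he D.t_mem) ?_)).trans D.t_inv
  rw [L.x_add _ he' _ L.t_mem, ← h3, h, L.x_t, τ.addF]

variable (hx : ∀ c, ∃ e ∈ D.E, L.x e = c) (ha : L.a = 0)
include hx

omit [Finite F] in
theorem π_surj (u : K × F × F) : ∃ g ∈ L.S, L.π g = u := by
  obtain ⟨y, hy, e1⟩ := D.α_surj u.1
  obtain ⟨e, he, e2⟩ := hx u.2.1
  obtain ⟨w, hw, h1, h2, h3⟩ := L.surj u.2.2
  refine ⟨y * e * w, mul_mem (mul_mem (L.Q_le hy) (L.E_le he)) hw, ?_⟩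
  rw [L.π_add _ (mul_mem (L.Q_le hy) (L.E_le he)) _ hw, L.π_add _ (L.Q_le hy) _ (L.E_le he),
    L.π_Q hy, L.π_E he, e1, e2, π, h1, h2, h3]
  simp

/-- The commutator frame on `S`. -/
def cfT : CF G (Bt τ) :=
  ⟨L.S, D.v, L.π, D.v_add, D.v_inj, L.π_add, L.π_surj hx, fun _ hg _ hg' => L.comm hg hg'⟩

include ha in
theorem exists_act : ∃ A : G → Option K → Option K,
    (∀ g ∈ Ns L.S, ∀ y ∈ L.S, ∀ a, ∀ c : F, c ≠ 0 → L.π y = c • vec τ a →
      ∃ c' : F, c' ≠ 0 ∧ L.π (g * y * g⁻¹) = c' • vec τ (A g a)) ∧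
    (∀ g ∈ Ns L.S, ∀ g' ∈ Ns L.S, ∀ a, A (g * g') a = A g (A g' a)) ∧ ∀ a, A 1 a = a := by
  choose s hs es using L.π_surj hx
  have h1 : ∀ g ∈ Ns L.S, ∀ y ∈ L.S, ∀ a, ∀ c : F, c ≠ 0 → L.π y = c • vec τ a →
      ∃ c' : F, c' ≠ 0 ∧ L.π (g * y * g⁻¹) = c' • vec τ (pt (L.π (g * s (vec τ a) * g⁻¹))) :=
    fun g hg y hy a c hc e => by
      obtain ⟨σ, μ, f, -, h1, -, h2, -⟩ := (L.cfT hx).act symp_Bt hg
      have h3 := mem_normalizer_conj hg (hs (vec τ a))
      have h4 := L.sq _ (hs (vec τ a))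
      have h5 : τ.N (L.π (s (vec τ a))).1 + (L.π (s (vec τ a))).2.1 * (L.π (s (vec τ a))).2.2 = 0 := by
        rw [es]; cases a <;> simp [vec, τ.addF]
      rw [ha, zero_add] at h4
      replace h4 := h4.trans (congrArg D.v h5)
      have h6 := L.sq _ h3
      rw [ha, zero_add, conj_sq, h4, D.v_zero, mul_one, mul_inv_cancel,
        eq_comm, D.v_eq_one] at h6
      obtain ⟨c', hc', e'⟩ := exists_vec (u := L.π (g * s (vec τ a) * g⁻¹)) h6 fun h => by
        have := (h2 _ (hs (vec τ a))).symm.trans h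
        rw [map_eq_zero_iff _ f.injective] at this
        have := (es _).symm.trans this
        cases a <;> simp [vec] at this
      refine ⟨σ c * c', mul_ne_zero ((map_ne_zero _).2 hc) hc', ?_⟩
      rw [mul_smul, ← e']
      exact (h2 y hy).trans ((congrArg f e).trans ((h1 _ _).trans (congrArg _
        ((congrArg f (es _).symm).trans (h2 _ (hs _)).symm))))
  refine ⟨_, h1, fun g hg g' hg' a => ?_, fun a => ?_⟩
  · obtain ⟨c, hc, e⟩ := h1 g' hg' _ (hs (vec τ a)) a 1 one_ne_zero (by rw [es, one_smul])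
    obtain ⟨c', hc', e'⟩ := h1 g hg _ (mem_normalizer_conj hg' (hs _)) _ c hc e
    refine Eq.trans ?_ (pt_vec (τ := τ) hc' _)
    rw [← e']
    congr 2
    group
  · rw [one_mul, inv_one, mul_one, es, ← one_smul F (vec τ a), pt_vec one_ne_zero]

include ha in
/-- The normaliser of `S` preserves the pair of points `0`, `∞`. -/
theorem pair_pts [Finite G] [Finite K]
    (h : ∀ g ∈ Ns L.S, (∀ w ∈ L.S, L.al w = 0 → L.x w = 0 →
      L.al (g * w * g⁻¹) = 0 ∧ L.x (g * w * g⁻¹) = 0) → ∀ e ∈ D.E, L.al (g * e * g⁻¹) = 0)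
    {g : G} (hg : g ∈ Ns L.S) {d : G} (hd : d ∈ L.S) (hd0 : L.al d = 0) :
    L.al (g * d * g⁻¹) = 0 := by
  obtain ⟨A, hA, hmul, hone⟩ := L.exists_act hx ha
  obtain ⟨w, hw, ew⟩ := L.π_surj hx (vec τ none)
  have et : L.π D.t = vec τ (some 0) := by rw [L.π_E D.t_mem, L.x_t]; simp [vec]
  have hAv : ∀ g ∈ Ns L.S, ∀ y ∈ L.S, ∀ a, L.π y = vec τ a → A g a = pt (L.π (g * y * g⁻¹)) :=
    fun g hg y hy a e => by
      obtain ⟨c, hc, e'⟩ := hA g hg y hy a 1 one_ne_zero (by rw [e, one_smul])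
      rw [e', pt_vec hc]
  have hinv : ∀ g ∈ Ns L.S, ∀ a, A g⁻¹ (A g a) = a := fun g hg a => by
    rw [← hmul _ (inv_mem hg) _ hg, inv_mul_cancel, hone]
  have hinj : ∀ g ∈ Ns L.S, ∀ a b, A g a = A g b → a = b := fun g hg a b e => by
    rw [← hinv g hg a, e, hinv g hg]
  have hal : ∀ g ∈ Ns L.S, ∀ y ∈ L.S, ∀ a, L.π y = vec τ a →
      (L.al (g * y * g⁻¹) = 0 ↔ A g a = none ∨ A g a = some 0) := fun g hg y hy a e => by
    obtain ⟨c, hc, e'⟩ := hA g hg y hy a 1 one_ne_zero (by rw [e, one_smul])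
    rw [show L.al (g * y * g⁻¹) = (c • vec τ (A g a)).1 from congrArg (·.1) e']
    cases A g a <;> simp [vec, hc]
  have H0 : ∀ k ∈ D.H, A k none = none := fun k hk => by
    rw [hAv k (L.H_le hk) w hw _ ew, L.π_H hk hw, ew]; simp [vec, pt]
  have H1 : ∀ k ∈ D.H, ∀ a, A k (some a) = some (D.χ k * a) := fun k hk a => by
    obtain ⟨y, hy, e⟩ := L.π_surj hx (vec τ (some a))
    rw [hAv k (L.H_le hk) y hy _ e, L.π_H hk hy, e]; simp [vec, pt]
  have F2 : ∀ g ∈ Ns L.S, A g (some 0) = some 0 → A g none = none := fun g hg e => by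
    obtain ⟨c, -, e'⟩ := hA g hg _ L.t_mem _ 1 one_ne_zero (by rw [et, one_smul])
    rw [e] at e'
    obtain ⟨z, hz, -, h1, -⟩ := L.exists_term hg (by simpa [vec, π] using congrArg (·.1) e')
      (by simpa [vec, π] using congrArg (·.2.2) e')
    have h2 : g ∈ Ns D.Q := (mul_mem_cancel_left (inv_mem (D.Tr0_le (L.S_le_Tr0 hz)))).1
      (D.mem_Ns_Q h1 (L.Ns_le_V (mul_mem (inv_mem (le_normalizer hz)) hg)))
    refine ((hal g hg w hw _ ew).1 ((L.mem_Cs_iff (mem_normalizer_conj hg hw)).1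
      (mem_normalizer_conj (normalizer_le_normalizer_centralizer _ h2)
        ((L.mem_Cs_iff hw).2 (congrArg (·.1) ew))))).resolve_right fun e1 => ?_
    exact absurd (hinj g hg _ _ (e1.trans e.symm)) (by simp)
  have F3 : ∀ g ∈ Ns L.S, A g none = none → A g (some 0) = some 0 := fun g hg e => by
    refine ((hal g hg _ L.t_mem _ et).1 (h g hg (fun y hy h1 h2 => ?_) _ D.t_mem)).resolve_left
      fun e1 => absurd (hinj g hg _ _ (e1.trans e.symm)) (by simp)
    by_cases h3 : L.p y = 0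
    · obtain ⟨b, hb⟩ := mem_normalizer_conj (L.Ns_le_V hg) (L.ker y hy h1 h2 h3)
      rw [hb]
      exact ⟨L.al_v b, L.x_v b⟩
    obtain ⟨c, -, e'⟩ := hA g hg y hy none (L.p y) h3 (by simp [π, vec, h1, h2])
    rw [e] at e'
    exact ⟨by simpa [vec, π] using congrArg (·.1) e', by simpa [vec, π] using congrArg (·.2.1) e'⟩
  have F4 : ∀ g ∈ Ns L.S, ∀ g' ∈ Ns L.S, A g (some 0) = A g' (some 0) ↔ A g none = A g' none :=
    fun g hg g' hg' => by
      have h1 : ∀ a, A g a = A g' a ↔ A (g'⁻¹ * g) a = a := fun a => by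
        rw [hmul _ (inv_mem hg') _ hg]
        exact ⟨fun e => by rw [e, hinv g' hg'],
          fun e => hinj _ (inv_mem hg') _ _ (by rw [e, hinv g' hg'])⟩
      rw [h1, h1]
      exact ⟨F2 _ (mul_mem (inv_mem hg') hg), F3 _ (mul_mem (inv_mem hg') hg)⟩
  obtain ⟨z, z0, z1⟩ := exists_ne_zero_one (F := F) (by have := D.big; omega)
  have F5 : ∀ g ∈ Ns L.S, (A g (some 0) = none ∨ A g (some 0) = some 0) ↔
      (A g none = none ∨ A g none = some 0) := fun g hg => by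
    obtain ⟨k, hk, ek⟩ := D.χ_F z z0
    have h1 : ∀ a, (a = none ∨ a = some 0) ↔ A k a = a := fun a => by
      cases a with
      | none => simp [H0 k hk]
      | some a =>
        rw [H1 k hk, ek, Option.some_inj, Option.some_inj, or_iff_right (by simp)]
        exact ⟨fun e => by rw [e, mul_zero], fun e => by_contra fun e' =>
          z1 (Qx.inj (K := K) (by rw [map_one]; exact (mul_eq_right₀ e').1 e))⟩
    rw [h1, h1, ← hmul _ (L.H_le hk) _ hg, ← hmul _ (L.H_le hk) _ hg]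
    exact F4 _ (mul_mem (L.H_le hk) hg) _ hg
  suffices h1 : A g (some 0) = none ∨ A g (some 0) = some 0 by
    obtain ⟨σ, μ, f, -, h2, -, h3, -⟩ := (L.cfT hx).act symp_Bt hg
    change ∀ x ∈ L.S, L.π _ = f (L.π x) at h3
    have h4 : L.π d = L.x d • L.π D.t + L.p d • L.π w := by rw [et, ew]; simp [π, vec, hd0]
    have h5 := congrArg (·.1) (h3 d hd)
    rw [h4, map_add, h2, h2, ← h3 _ L.t_mem, ← h3 w hw] at h5
    simpa [π, (hal g hg _ L.t_mem _ et).2 h1, (hal g hg w hw _ ew).2 ((F5 g hg).1 h1)] using h5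
  by_contra hn
  have hn' := mt (F5 g hg).2 hn
  obtain ⟨κ, e0⟩ := Option.ne_none_iff_exists'.1 fun e => hn (Or.inl e)
  obtain ⟨κ', e1⟩ := Option.ne_none_iff_exists'.1 fun e => hn' (Or.inl e)
  have k0 : κ ≠ 0 := fun e => hn (Or.inr (e ▸ e0))
  have k1 : κ' ≠ 0 := fun e => hn' (Or.inr (e ▸ e1))
  have k2 : κ + κ' ≠ 0 := fun e => absurd
    (hinj g hg _ _ (e0.trans ((congrArg some (τ.add_eq_zeroK.1 e)).trans e1.symm))) (by simp)
  have mob : ∀ m : F, m ≠ 0 → m ≠ 1 → ∃ k ∈ D.H,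
      A (g * k * g⁻¹) none = some (κ + m • (κ + κ')) := fun m m0 m1 => by
    obtain ⟨σ, μ, f, -, h2, h4, h3, -⟩ := (L.cfT hx).act symp_Bt hg
    change ∀ x ∈ L.S, L.π _ = f (L.π x) at h3
    have m2 : 1 + m ≠ 0 := fun e => m1 (τ.add_eq_zeroF.1 e).symm
    obtain ⟨k, hk, ek⟩ := D.χ_F (σ.symm (m / (1 + m))) ((map_ne_zero _).2 (div_ne_zero m0 m2))
    refine ⟨k, hk, ?_⟩
    have hy := mem_normalizer_conj (inv_mem hg) hw
    obtain ⟨c, hc, ec⟩ := hA g hg _ L.t_mem _ 1 one_ne_zero (by rw [et, one_smul])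
    obtain ⟨c', hc', ec'⟩ := hA g hg w hw _ 1 one_ne_zero (by rw [ew, one_smul])
    rw [h3 _ L.t_mem, et, e0] at ec
    rw [h3 w hw, ew, e1] at ec'
    have h5 := h3 _ hy
    rw [show g * (g⁻¹ * w * g⁻¹⁻¹) * g⁻¹ = w by group, ew] at h5
    rw [hAv _ (mul_mem (mul_mem hg (L.H_le hk)) (inv_mem hg)) w hw _ ew,
      show g * k * g⁻¹ * w * (g * k * g⁻¹)⁻¹ = g * (k * (g⁻¹ * w * g⁻¹⁻¹) * k⁻¹) * g⁻¹ by group,
      h3 _ (L.H_S k hk _ hy).1, L.π_H hk hy, ek, τ.N_alg]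
    generalize L.π (g⁻¹ * w * g⁻¹⁻¹) = u at h5
    obtain ⟨a, x, p⟩ := u
    have h6 : ∀ l : F, ((algebraMap F K l * a, x, l * l * p) : K × F × F) =
        l • (a, 0, 0) + x • vec τ (some 0) + (l * l * p) • vec τ none := fun l => by
      simp [vec, Algebra.smul_def]
    have h7 := h6 1
    simp only [map_one, one_mul, one_smul] at h7
    rw [h7, map_add, map_add, h2, h2, ec, ec', smul_smul, smul_smul] at h5
    have h8 := h4 (a, 0, 0) (vec τ (some 0))
    have h9 := h4 (a, 0, 0) (vec τ none)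
    rw [ec, map_smul, show Bt τ (a, 0, 0) (vec τ (some 0)) = 0 by simp [Bt_apply, vec], map_zero,
      mul_zero, smul_eq_zero_iff_right hc] at h8
    rw [ec', map_smul, show Bt τ (a, 0, 0) (vec τ none) = 0 by simp [Bt_apply, vec], map_zero,
      mul_zero, smul_eq_zero_iff_right hc'] at h9
    rw [h6, map_add, map_add, h2, h2, h2, ec, ec', smul_smul, smul_smul, map_mul, map_mul,
      σ.apply_symm_apply, mul_assoc _ (σ p)]
    generalize σ x * c = α at h5 ⊢
    generalize σ p * c' = β at h5 ⊢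
    have b1 := congrArg (Bt τ · (vec τ (some κ))) h5
    have b2 := congrArg (Bt τ · (vec τ (some κ'))) h5
    simp only [map_add, map_smul, LinearMap.add_apply, LinearMap.smul_apply, h8, h9, Bt_self,
      Bt_comm (vec τ (some κ')) (vec τ (some κ)), smul_eq_mul, mul_zero, add_zero, zero_add] at b1 b2
    rw [show ∀ k, Bt τ (vec τ none) (vec τ (some k)) = 1 from fun k => by simp [Bt_apply, vec]]
      at b1 b2
    obtain rfl : α = β := mul_right_cancel₀ (right_ne_zero_of_mul_eq_one b1.symm) (b2.symm.trans b1)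
    have b3 := left_ne_zero_of_mul_eq_one b1.symm
    generalize f (a, 0, 0) = Z at h5 ⊢
    obtain ⟨Z1, Z2, Z3⟩ := Z
    simp only [vec, Prod.smul_mk, Prod.mk_add_mk, Prod.mk.injEq, smul_eq_mul, mul_one] at h5 ⊢
    have b4 : Z2 = 0 := by linear_combination -h5.2.1 - α * τ.two
    have b5 : Z1 = α • κ + α • κ' := τ.add_eq_zeroK.1 (by rw [← add_assoc, ← h5.1])
    have b6 : m / (1 + m) * Z2 + α + m / (1 + m) * (m / (1 + m)) * α = α / ((1 + m) * (1 + m)) := by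
      rw [b4]
      field_simp
      linear_combination (m + m * m) * α * τ.two
    refine pt_eq (by rw [b6]; exact div_ne_zero b3 (mul_ne_zero m2 m2)) ?_
    change _ = (_ : F) • _
    rw [b6, b5]
    match_scalars
    all_goals
      field_simp
      linear_combination m * τ.two
  by_cases hB : τ.B κ κ' = 0
  · obtain ⟨r, rfl⟩ := (τ.B_eq_zero k0).1 hB
    have r1 : 1 + r ≠ 0 := fun e => k2 (by rw [← one_smul F κ, smul_smul, mul_one, ← add_smul, e,
      zero_smul])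
    obtain ⟨k, hk, e⟩ := mob (1 + r)⁻¹ (inv_ne_zero r1) fun e => k1 (by
      rw [add_eq_left.1 (inv_eq_one.1 e), zero_smul])
    have hk' := mul_mem (mul_mem hg (L.H_le hk)) (inv_mem hg)
    rw [show κ + r • κ = (1 + r) • κ by rw [add_smul, one_smul], inv_smul_smul₀ r1, τ.addK] at e
    have e' := ((F5 _ hk').2 (Or.inr e)).resolve_right fun e' =>
      absurd (hinj _ hk' _ _ (e.trans e'.symm)) (by simp)
    obtain ⟨j, hj⟩ := odd_orderOf D.H_odd hk
    have h1 : (g * k * g⁻¹) ^ (2 * j + 1) = 1 := by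
      rw [conj_pow, ← hj, pow_orderOf_eq_one, mul_one, mul_inv_cancel]
    generalize g * k * g⁻¹ = s at e e' h1 hk'
    have h2 : ∀ i : ℕ, A (s ^ (2 * i + 1)) none = some 0 := fun i => by
      induction i with
      | zero => simpa using e
      | succ i ih =>
        rw [show 2 * (i + 1) + 1 = 2 * i + 1 + 1 + 1 by ring, pow_succ', pow_succ',
          hmul _ hk' _ (mul_mem hk' (pow_mem hk' _)), hmul _ hk' _ (pow_mem hk' _), ih, e', e]
    exact absurd ((hone none).symm.trans (h1 ▸ h2 j)) (by simp)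
  have orb : ∀ k ≠ 0, ∃ n ∈ Ns L.S, A n none = some k := fun k hk => by
    obtain ⟨ρ, hρ, hω, hω1⟩ := D.χ_ω
    obtain ⟨i, b1, b2⟩ := τ.exists_off hω hω1 hk k0 k2
    suffices ∃ n ∈ Ns L.S, A n none = some (D.χ ρ ^ i * k) by
      obtain ⟨n, hn, e⟩ := this
      have h1 : ∀ i : ℕ, A (ρ ^ i) (some k) = some (D.χ ρ ^ i * k) := fun i => by
        induction i with
        | zero => simpa using hone _
        | succ i ih =>
          rw [pow_succ', hmul _ (L.H_le hρ) _ (pow_mem (L.H_le hρ) i), ih, H1 ρ hρ, pow_succ',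
            mul_assoc]
      have h2 := pow_mem (L.H_le hρ) i
      exact ⟨_, mul_mem (inv_mem h2) hn, by rw [hmul _ (inv_mem h2) _ hn, e, ← h1, hinv _ h2]⟩
    generalize D.χ ρ ^ i * k = k at b1 b2
    obtain ⟨s, hs, es⟩ := D.χ_F (τ.B (κ + κ') k / τ.B κ κ') (div_ne_zero b2 hB)
    obtain ⟨n, hn, e⟩ : ∃ n ∈ Ns L.S,
        A n none = some (κ + (τ.B κ k / τ.B (κ + κ') k) • (κ + κ')) := by
      by_cases m1 : τ.B κ k / τ.B (κ + κ') k = 1
      · exact ⟨g, hg, by rw [m1, one_smul, ← add_assoc, τ.addK, zero_add, e1]⟩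
      obtain ⟨n, hn, e⟩ := mob _ (div_ne_zero b1 b2) m1
      exact ⟨_, mul_mem (mul_mem hg (L.H_le hn)) (inv_mem hg), e⟩
    refine ⟨s * n, mul_mem (L.H_le hs) hn, ?_⟩
    rw [hmul _ (L.H_le hs) _ hn, e, H1 s hs, es, ← Algebra.smul_def]
    obtain ⟨y, hy⟩ := (τ.B_eq_zero (c := k + (τ.B κ k / τ.B κ κ') • κ') k0).1 (by
      rw [map_add, map_smul, smul_eq_mul, div_mul_cancel₀ _ hB, τ.addF])
    have h1 := congrArg (τ.B κ') hy
    rw [map_add, map_smul, map_smul, τ.B_self, smul_zero, add_zero, τ.B_comm κ' κ, smul_eq_mul] at h1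
    have h2 : k = y • κ + (τ.B κ k / τ.B κ κ') • κ' := by rw [← hy, add_assoc, τ.addK, add_zero]
    rw [map_add, LinearMap.add_apply, h1] at b2 ⊢
    generalize τ.B κ k = b at h2 b2
    rw [h2]
    congr 1
    match_scalars
    · field_simp
      linear_combination b * τ.two
    · field_simp
  obtain ⟨n, hn1, en⟩ := orb κ k0
  have hs := mul_mem (inv_mem hg) hn1
  have es : A (g⁻¹ * n) none = some 0 := by rw [hmul _ (inv_mem hg) _ hn1, en, ← e0, hinv g hg]
  have es' := ((F5 _ hs).2 (Or.inr es)).resolve_right fun e' =>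
    absurd (hinj _ hs _ _ (es.trans e'.symm)) (by simp)
  generalize g⁻¹ * n = s at hs es es'
  have all : ∀ a, ∃ n ∈ Ns L.S, A n (some 0) = a := fun a => by
    cases a with
    | none => exact ⟨s, hs, es'⟩
    | some k =>
      by_cases hk : k = 0
      · exact ⟨1, one_mem _, by rw [hone, hk]⟩
      obtain ⟨n, hn, e⟩ := orb k hk
      exact ⟨n * s, mul_mem hn hs, by rw [hmul _ hn _ hs, es', e]⟩
  choose r hr er using all
  obtain ⟨a, ea⟩ := exists_fix_of_odd (α := Option K) (f := fun a => A (r a) none) (by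
    rw [Finite.card_option]
    refine (Nat.not_odd_iff_even.1 fun h1 => ?_).add_one
    obtain ⟨a, e⟩ := exists_fix_of_odd h1 (f := (· + 1)) fun a => by
      rw [add_assoc, τ.addK, add_zero]
    exact one_ne_zero (add_eq_left.1 e)) fun a => by
      rw [(F4 _ (hr _) _ (mul_mem (hr a) hs)).1 (by rw [er, hmul _ (hr a) _ hs, es']),
        hmul _ (hr a) _ hs, es, er]
  exact absurd (hinj _ (hr a) _ _ (ea.trans (er a).symm)) (by simp)

end Lev1

end Cfsg.Lib.StdU3
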