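import Cfsg.Agent.StdU3.Lev1C
import Cfsg.Agent.StdU3.L1sA

/-!
# Standard subgroups of type `U₃(2ⁿ)`: the case division at the first level
-/

set_option autoImplicit false

namespace Cfsg.Lib.StdU3

open Subgroup Cfsg.Lib.Gold Cfsg.Lib.Trans Cfsg.Lib.StdSz
open scoped commutatorElement

variable {G : Type*} [Group G] {F K : Type*} [Field F] [Field K] [Algebra F K] {τ : Qx F K}
variable [Finite G] [Finite F] [Finite K]

namespace Lev1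

variable {D : Dat G τ} (L : Lev1 D)

theorem special (hx : ∀ c, ∃ e ∈ D.E, L.x e = c) (ha : L.a = 0)
    (h : ∀ g ∈ Ns L.S, (∀ w ∈ L.S, L.al w = 0 → L.x w = 0 →
      L.al (g * w * g⁻¹) = 0 ∧ L.x (g * w * g⁻¹) = 0) → ∀ e ∈ D.E, L.al (g * e * g⁻¹) = 0) :
    D.SV := by
  have pair := fun g hg d hd => L.pair_pts hx ha h (g := g) hg (d := d) hd
  have cj : ∀ g ∈ Ns L.S, ∀ d ∈ L.S, g * d * g⁻¹ ∈ L.S := fun g hg d hd => mem_normalizer_conj hg hd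
  have hNQ : Ns L.S ≤ Ns D.Q := fun g hg => mem_Ns fun y hy => by
    have h1 : ∀ d ∈ L.S, L.al d = 0 → L.x (g * y * g⁻¹) * L.p d + L.p (g * y * g⁻¹) * L.x d = 0 :=
      fun d hd h0 => by
        have h2 := (commute_conj (mem_Cs.1 (L.commute_Q (cj _ (inv_mem hg) d hd)
          (pair _ (inv_mem hg) d hd h0)) y hy) g).symm.commutator_eq
        rw [show g * (g⁻¹ * d * g⁻¹⁻¹) * g⁻¹ = d by group, L.comm (cj g hg y (L.Q_le hy)) hd,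
          D.v_eq_one, h0, map_zero, zero_add] at h2
        exact h2
    obtain ⟨w, hw, e1, e2, e3⟩ := L.surj 1
    have h2 := h1 w hw e1
    have h3 := h1 _ L.t_mem L.al_t
    rw [e2, e3, mul_one, mul_zero, add_zero] at h2
    rw [L.p_t, L.x_t, mul_one, mul_zero, zero_add] at h3
    exact L.mem_Q_of (cj g hg y (L.Q_le hy)) (Prod.ext h2 h3)
  obtain ⟨S, hS, hle, hN, hmax, -⟩ := exists_max_two L.two (le_normalizer (H := L.S))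
  have hA : L.S ≤ S ⊓ D.Tr0 := le_inf hle L.le_Tr0
  have cV : ∀ g ∈ Ns L.S, ∀ z ∈ D.V, g * z * g⁻¹ ∈ D.V := fun g hg z hz =>
    mem_normalizer_conj (L.Ns_le_V hg) hz
  have inv : ∀ d ∈ L.S, L.al d = 0 → d * d = 1 → L.x d = 0 ∨ L.p d = 0 := fun d hd h0 h2 => by
    have := L.sq_eq_one hd h2
    rwa [h0, ha, τ.N_zero, zero_add, zero_add, mul_eq_zero] at this
  have b1 : ∀ s ∈ S ⊓ D.Tr0, s ∉ L.S → ∀ e ∈ D.E, e ≠ 1 →
      L.p (s * e * s⁻¹) ≠ 0 ∧ L.x (s * e * s⁻¹) = 0 := fun s hs hn e he h1 => by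
    have h2 := pair s (hN hs.1) e (L.E_le he) (L.al_E e he)
    have h3 : L.p (s * e * s⁻¹) ≠ 0 := fun h3 => by
      obtain ⟨w, hw, h4⟩ := L.term (hN hs.1) he h1 h2 h3
      have h5 := mul_mem (inv_mem (hA (L.W_le hw))) hs
      obtain ⟨n, hn'⟩ := pow_of_two hS h5.1
      exact hn ((mul_mem_cancel_left (inv_mem (L.W_le hw))).1 (L.TT_le (D.mem_TT_of h4 h5.2 hn')))
    exact ⟨h3, (inv _ (cj s (hN hs.1) e (L.E_le he)) h2 (by
      rw [conj_sq, D.E_sq e he, mul_one, mul_inv_cancel])).resolve_right h3⟩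
  have b2 : ∀ s ∈ S ⊓ D.Tr0, s ∉ L.S → ∀ w ∈ L.S, L.al w = 0 → L.x w = 0 → L.p w ≠ 0 →
      L.x (s * w * s⁻¹) ≠ 0 ∧ L.p (s * w * s⁻¹) = 0 := fun s hs hn w hw h1 h2 h3 => by
    have h4 := cj s (hN hs.1) w hw
    have h5 := pair s (hN hs.1) w hw h1
    have h6 : L.x (s * w * s⁻¹) ≠ 0 := fun h6 => by
      have h7 := L.comm (cj s (hN hs.1) _ L.t_mem) h4
      rw [conj_comm, L.comm L.t_mem hw, h5, h6, (b1 s hs hn _ D.t_mem D.t_ne).2, h1, L.x_t, L.p_t,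
        conj_eq_of_commute (D.Tr0_v hs.2 _)] at h7
      exact h3 (by simpa using D.v_inj h7)
    exact ⟨h6, (inv _ h4 h5 (by
      rw [conj_sq, L.sq w hw, h1, h2, ha]; simp [D.v_zero])).resolve_left h6⟩
  have idx : ∀ s ∈ S ⊓ D.Tr0, ∀ s' ∈ S ⊓ D.Tr0, s ∉ L.S → s' ∉ L.S → s * s' ∈ L.S :=
    fun s hs s' hs' n n' => by_contra fun n'' => by
      obtain ⟨h1, h2⟩ := b1 s' hs' n' _ D.t_mem D.t_ne
      refine (b1 _ (mul_mem hs hs') n'' _ D.t_mem D.t_ne).1 ?_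
      rw [← (b2 s hs n _ (cj s' (hN hs'.1) _ L.t_mem) (pair s' (hN hs'.1) _ L.t_mem L.al_t) h2 h1).2]
      congr 1
      group
  have hπ : ∀ g ∈ Ns L.S, ∀ d ∈ L.S, ∀ d' ∈ L.S, L.π d = L.π d' →
      L.π (g * d * g⁻¹) = L.π (g * d' * g⁻¹) := fun g hg d hd d' hd' e => by
    obtain ⟨-, -, f, -, -, -, h3, -⟩ := (L.cfT hx).act symp_Bt hg
    exact (h3 d hd).trans ((congrArg f e).trans (h3 d' hd').symm)
  have inn : ∀ y ∈ S ⊓ D.Tr0, ∃ x ∈ D.Q, x⁻¹ * y ∈ Cs D.Q := fun y hy => by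
    obtain ⟨ρ, hρ, hω, hω1⟩ := D.χ_ω
    have hy' := hN hy.1
    have hρ' := L.H_le hρ
    have h1 := cj _ (inv_mem hy') _ L.t_mem
    have h2 : L.π (ρ⁻¹ * (y⁻¹ * D.t * y⁻¹⁻¹) * ρ⁻¹⁻¹) = L.π (y⁻¹ * D.t * y⁻¹⁻¹) := by
      have h3 := congrArg τ.N (D.χ_mul hρ (inv_mem hρ))
      rw [mul_inv_cancel, D.χ_one, τ.N_one, τ.N_mul, hω, one_mul] at h3
      rw [L.π_H (inv_mem hρ) h1, ← h3, one_mul]
      simp [π, pair _ (inv_mem hy') _ L.t_mem L.al_t, -inv_inv]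
    have h3 := hπ ρ hρ' _ (cj y hy' _ (cj _ (inv_mem hρ') _ h1)) _ (cj y hy' _ h1)
      (hπ y hy' _ (cj _ (inv_mem hρ') _ h1) _ h1 h2)
    rw [show y * (y⁻¹ * D.t * y⁻¹⁻¹) * y⁻¹ = D.t by group, conj_eq_of_commute (D.t_H ρ hρ),
      show ρ * (y * (ρ⁻¹ * (y⁻¹ * D.t * y⁻¹⁻¹) * ρ⁻¹⁻¹) * y⁻¹) * ρ⁻¹ =
        ρ * y * ρ⁻¹ * y⁻¹ * D.t * (ρ * y * ρ⁻¹ * y⁻¹)⁻¹ by group] at h3
    obtain ⟨w, hw, h4, -, h5⟩ := L.exists_term
      (mul_mem (mul_mem (mul_mem hρ' hy') (inv_mem hρ')) (inv_mem hy'))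
      ((congrArg (·.1) h3).trans L.al_t) ((congrArg (·.2.2) h3).trans L.p_t)
    obtain ⟨e, he, x, hx, o, ho, h6⟩ := D.cent _ (h5 ((congrArg (·.2.1) h3).trans L.x_t))
      (mul_mem (inv_mem (L.le_Tr0 hw)) (mul_mem (D.conj_mem_Tr0 (D.H_Q hρ) hy.2) (inv_mem hy.2)))
    refine D.inner hy.2 hρ hω hω1 ⟨x, hx, ?_⟩
    have h7 := mul_mem (L.commute_Q hw h4) (mem_Cs.2 fun z hz => D.E_Q he hz)
    rw [inv_mul_eq_iff_eq_mul.1 h6, ← mul_assoc w, ← mul_assoc w, (mem_Cs.1 h7 x hx).eq,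
      mul_assoc x, inv_mul_cancel_left]
    exact mul_mem h7 (mem_Cs.2 (D.O_Q o ho))
  have cS : ∀ d ∈ L.S, ∀ s ∈ L.S, ⁅d, s⁆ ∈ D.V := fun d hd s hs => ⟨_, L.comm hd hs⟩
  obtain ⟨Ψ, hΨ, hΨV⟩ : ∃ Ψ : Subgroup G, (∀ a ∈ S ⊓ D.Tr0, a * a ∈ Ψ) ∧
      ∀ z ∈ Ψ, IsConj (D.v 1) z → z ∈ D.V := by
    by_cases hy : S ⊓ D.Tr0 ≤ L.S
    · exact ⟨D.V, fun a ha => ⟨_, L.sq a (hy ha)⟩, fun _ hz _ => hz⟩
    obtain ⟨y, hy, hn⟩ := SetLike.not_le_iff_exists.1 hy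
    have h1 : AddOn L.S fun d => L.π (y * d * y⁻¹) + L.π d := fun d hd d' hd' => by
      beta_reduce
      rw [← conj_mul, L.π_add _ (cj y (hN hy.1) d hd) _ (cj y (hN hy.1) d' hd'), L.π_add d hd d' hd']
      abel
    refine ⟨L.al_add.ker ⊓ h1.ker, fun a ha => ?_, fun z hz hc => by_contra fun hz' => ?_⟩
    · obtain ⟨h2, h3⟩ : a * a ∈ L.S ∧ L.π (y * (a * a) * y⁻¹) = L.π (a * a) := by
        by_cases h2 : a ∈ L.S
        · obtain ⟨b, e⟩ := cV y (hN hy.1) _ ⟨_, L.sq a h2⟩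
          exact ⟨mul_mem h2 h2, by rw [e, L.sq a h2, L.π_Q (D.v_mem _), L.π_Q (D.v_mem _), D.α_v,
            D.α_v]⟩
        have h3 := idx a ha a ha h2 h2
        refine ⟨h3, ?_⟩
        rw [← L.π_add.conj (idx y hy _ (inv_mem ha) hn fun h => h2 (inv_mem_iff.1 h)) h3]
        congr 1
        group
      obtain ⟨x, hx, h4⟩ := inn a ha
      refine ⟨⟨h2, L.al_eq_zero h2 ?_⟩, h2, (congrArg (· + _) h3).trans (addU (τ := τ) _)⟩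
      have h5 : a * a = x * x * (x⁻¹ * a * (x⁻¹ * a)) := by
        rw [mul_assoc x x, ← mul_assoc x (x⁻¹ * a), ← (mem_Cs.1 h4 x hx).eq]; group
      rw [h5, D.sq x hx]
      exact mul_mem (D.Cs_of_α (D.v_mem _) (D.α_v _)) (mul_mem h4 h4)
    obtain ⟨⟨h2, h3⟩, -, h4⟩ := hz
    obtain ⟨g, rfl⟩ := isConj_iff.1 hc
    have h5 := inv _ h2 h3 (by rw [conj_sq, D.v_sq, mul_one, mul_inv_cancel])
    generalize g * D.v 1 * g⁻¹ = z at *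
    have h6 : L.x (y * z * y⁻¹) = L.x z := τ.add_eq_zeroF.1 (congrArg (·.2.1) h4)
    have h7 : L.p (y * z * y⁻¹) = L.p z := τ.add_eq_zeroF.1 (congrArg (·.2.2) h4)
    by_cases h8 : L.x z = 0
    · exact (b2 y hy hn z h2 h3 h8 fun h9 => hz' (L.ker z h2 h3 h8 h9)).1 (h6.trans h8)
    obtain ⟨e, he, h9⟩ := L.x_range z h2
    have h10 := hπ y (hN hy.1) z h2 e (L.E_le he) (by
      rw [L.π_E he]; exact Prod.ext h3 (Prod.ext h9 (h5.resolve_left h8)))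
    exact h8 (h6.symm.trans ((congrArg (·.2.1) h10).trans (b1 y hy hn e he (by
      rintro rfl
      exact h8 (h9.trans L.x_add.one))).2))
  have hQS := L.Q_le.trans hle
  have hCT : ∀ d ∈ S ⊓ Cs D.Q, d ∈ S ⊓ D.Tr0 := fun d hd => ⟨hd.1, D.mem_Tr0_of_Cs (mem_Cs.1 hd.2)⟩
  refine D.sv_of_max hS hQS (hN.trans hNQ) inn Ψ hΨ hΨV (Z := L.al_add.ker)
    (fun z hz => ⟨hle hz.1, L.commute_Q hz.1 hz.2⟩) (fun z hz z' hz' => cS z hz.1 z' hz'.1)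
    (fun d hd d' hd' n n' => ?_) (fun g hg d hd _ => D.mem_Tr0_of_Cs (mem_Cs.1
      (mem_normalizer_conj (normalizer_le_normalizer_centralizer _ (hNQ (L.Q_sup ▸ hg))) hd.2)))
    fun g hg hgA h2 => ?_
  · have h1 := idx d (hCT d hd) d' (hCT d' hd') (fun h => n ⟨h, L.al_eq_zero h hd.2⟩)
      fun h => n' ⟨h, L.al_eq_zero h hd'.2⟩
    exact ⟨h1, L.al_eq_zero h1 (mul_mem hd.2 hd'.2)⟩
  have hgV : g ∈ Ns D.V := D.normal_pair hS hQS (hN.trans hNQ)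
    (fun a ha b hb => hΨV _ (comm_mem_of_sq hΨ ha hb))
    ((cj_mono g hQS).trans (cj_eq_of_mem_normalizer hg).le)
  have hgS : g ∈ Ns L.S := mem_Ns fun s hs => by_contra fun hn => by
    have hy := mem_normalizer_conj hgA (hA hs)
    have h1 : ∀ e ∈ D.E, L.x e ≠ 0 → g⁻¹ * e * g⁻¹⁻¹ ∉ L.S := fun e he h0 h1 => by
      have h3 := mem_normalizer_conj hgV (cS s hs _ h1)
      rw [← conj_comm, show g * (g⁻¹ * e * g⁻¹⁻¹) * g⁻¹ = e by group] at h3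
      obtain ⟨b, h4⟩ := h3
      have h5 := congrArg L.x h4
      rw [commutatorElement_def, L.x_add _ (cj _ (hN hy.1) e (L.E_le he)) _ (inv_mem (L.E_le he)),
        (b1 _ hy hn e he (by rintro rfl; exact h0 L.x_add.one)).2, L.x_add.inv (L.E_le he), L.x_v,
        zero_add, neg_eq_zero] at h5
      exact h0 h5
    obtain ⟨z, z0, z1⟩ := exists_ne_zero_one (F := F) (by have := D.big; omega)
    obtain ⟨e, he, rfl⟩ := hx z
    have h3 := fun e he => mem_normalizer_conj (inv_mem hgA) (hA (L.E_le (x := e) he))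
    refine h1 _ (mul_mem D.t_mem he) (by
      rw [L.x_add _ L.t_mem _ (L.E_le he), L.x_t]
      exact fun h => z1 (τ.add_eq_zeroF.1 h).symm) ?_
    rw [inv_inv, show g⁻¹ * (D.t * e) * g = g⁻¹ * D.t * g⁻¹⁻¹ * (g⁻¹ * e * g⁻¹⁻¹) by group]
    exact idx _ (h3 _ D.t_mem) _ (h3 e he) (h1 _ D.t_mem (L.x_t ▸ one_ne_zero)) (h1 e he z0)
  obtain ⟨n, hn⟩ := pow_of_two hS h2
  rw [← hmax _ (hS.to_sup_of_normal_left' (two_zpowers (k := n + 1) (by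
    rw [pow_succ', pow_mul, pow_two, hn])) (zpowers_le.2 hg)) le_sup_left
    (sup_le hN (zpowers_le.2 hgS))]
  exact mem_sup_right (mem_zpowers g)

theorem cases : D.SV ∨ (∃ W, Inv D W) ∨
    (L.a = 0 ∧ ∃ g ∈ Ns L.S, g ∈ Ns L.W ∧ ∃ e ∈ D.E, L.al (g * e * g⁻¹) ≠ 0) :=
  L.cases_of L.special

end Lev1

end Cfsg.Lib.StdU3
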