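import Cfsg.Agent.StdU3.Lev0B
import Cfsg.Agent.StdSz.Lev1

/-!
# Standard subgroups of type `U₃(2ⁿ)`: existence of the first level
-/

set_option autoImplicit false

namespace Cfsg.Lib.StdU3

open Subgroup Cfsg.Lib.Gold Cfsg.Lib.Trans Cfsg.Lib.StdSz
open scoped commutatorElement

variable {G : Type*} [Group G] {F K : Type*} [Field F] [Field K] [Algebra F K] {τ : Qx F K}
variable [Finite G] [Finite F] [Finite K]

namespace Dat

variable (D : Dat G τ)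

omit [Finite G] [Finite K] in
/-- An `H`-invariant group with squares in `V` and a coordinate onto `F` with kernel `V`. -/
theorem sq_const {W : Subgroup G} {p : G → F} (hp : AddOn W p) (hs : ∀ c, ∃ w ∈ W, p w = c)
    (hk : ∀ w ∈ W, p w = 0 → w ∈ D.V) (hV : ∀ w ∈ W, ∀ b, Commute w (D.v b))
    (hsq : ∀ w ∈ W, w * w ∈ D.V)
    (hH : ∀ k ∈ D.H, ∀ y ∈ W, k * y * k⁻¹ ∈ W ∧ p (k * y * k⁻¹) = τ.N (D.χ k) * p y) :
    ∃ a, ∀ w ∈ W, w * w = D.v (a * p w) := by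
  have hV' : ∀ w ∈ W, ∀ z ∈ D.V, Commute w z := by
    rintro w hw _ ⟨b, rfl⟩; exact hV w hw b
  have hc : ∀ w ∈ W, ∀ w' ∈ W, ⁅w, w'⁆ ∈ D.V := fun w hw w' hw' => comm_mem_of_sq hsq hw hw'
  have γ1 : D.γ 1 = 0 := D.γ_add.one
  have γH : ∀ k ∈ D.H, ∀ z ∈ D.V, D.γ (k * z * k⁻¹) = τ.N (D.χ k) * D.γ z := by
    rintro k hk _ ⟨b, rfl⟩; rw [D.H_v hk, D.γ_v, D.γ_v]
  obtain ⟨c, c1, c2, c3⟩ := pair p p (fun w w' => D.γ ⁅w, w'⁆) hp hp hs hs
    (fun y hy w hw w' hw' => by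
      simp only
      rw [comm_mul_left, conj_eq_of_commute (hV' w hw _ (hc w' hw' y hy)),
        D.γ_add _ (hc w' hw' y hy) _ (hc w hw y hy), add_comm])
    (fun y hy w hw w' hw' => by
      simp only
      rw [comm_mul_right, conj_eq_of_commute (hV' w hw _ (hc y hy w' hw')),
        D.γ_add _ (hc y hy w hw) _ (hc y hy w' hw')])
    (fun w hw w' hw' h0 => by
      rw [commutatorElement_eq_one_iff_commute.2 (hV' w' hw' _ (hk w hw h0)).symm, γ1])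
    fun w hw w' hw' h0 => by
      rw [commutatorElement_eq_one_iff_commute.2 (hV' w hw _ (hk w' hw' h0)), γ1]
  have c4 := form_sqrt τ.two c c1 c2 fun l hl a b => by
    obtain ⟨k, hk, rfl⟩ := D.exists_N hl
    obtain ⟨w, hw, rfl⟩ := hs a
    obtain ⟨w', hw', rfl⟩ := hs b
    rw [← (hH k hk w hw).2, ← (hH k hk w' hw').2, ← c3 _ (hH k hk w hw).1 _ (hH k hk w' hw').1,
      conj_comm, γH k hk _ (hc w hw w' hw'), c3 w hw w' hw']
  have c5 : c 1 1 = 0 := by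
    obtain ⟨w, hw, e⟩ := hs 1
    rw [← e, ← c3 w hw w hw, commutatorElement_self, γ1]
  have hab : ∀ w ∈ W, ∀ w' ∈ W, Commute w w' := fun w hw w' hw' => by
    obtain ⟨a, ha⟩ := τ.exists_sqrt (p w)
    obtain ⟨a', ha'⟩ := τ.exists_sqrt (p w')
    rw [← commutatorElement_eq_one_iff_commute, ← D.v_γ (hc w hw w' hw'), c3 w hw w' hw', ← ha,
      ← ha', c4, c5, zero_mul, D.v_zero]
  obtain ⟨r, -, hr⟩ := exists_factor (φ := fun w => D.γ (w * w)) hp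
    (fun w hw w' hw' => by
      rw [← D.γ_add _ (hsq w hw) _ (hsq w' hw'), (hab w hw w' hw').mul_mul_mul_comm]) hs
    fun w hw h0 => by
      obtain ⟨b, rfl⟩ := hk w hw h0
      rw [D.v_sq, γ1]
  refine ⟨r 1, fun w hw => ?_⟩
  by_cases h0 : p w = 0
  · obtain ⟨b, hb⟩ := hk w hw h0
    rw [h0, mul_zero, hb, D.v_sq, D.v_zero]
  obtain ⟨k, hk, e⟩ := D.exists_N h0
  obtain ⟨w1, hw1, e1⟩ := hs 1
  have h1 := hr _ (hH k hk w1 hw1).1
  rw [conj_sq, γH k hk _ (hsq w1 hw1), hr w1 hw1, (hH k hk w1 hw1).2, e, e1, mul_one] at h1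
  rw [← D.v_γ (hsq w hw), hr w hw, ← h1, mul_comm]

omit [Finite K] in
theorem exists_lev1 (h : ¬ Ns D.TT ≤ Ns D.E) : Nonempty (Lev1 D) := by
  classical
  obtain ⟨x, p, S, hx, hxt, hxi, hns, two, hTS, hS0, hp, hker, hps, hE, hH, hO⟩ := D.exists_S h
  obtain ⟨al0, x', -, hx', hc⟩ := D.exists_coord hx
  replace hc := fun e he y hy => (hc e he y hy).2
  have hQS := D.Q_le_TT.trans hTS
  have hES := D.E_le_TT.trans hTS
  have pT : ∀ y ∈ D.TT, p y = 0 := fun y hy => (hker y (hTS hy)).2 hy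
  have hdec : ∀ y ∈ S, ∃ z ∈ D.Q, ∃ d ∈ S ⊓ Cs D.Q, y = z * d := fun y hy => by
    obtain ⟨ρ, hρ, hρ1, hρ2⟩ := D.χ_ω
    obtain ⟨z, hz, h1⟩ := D.inner (hS0 hy) hρ hρ1 hρ2 (by
      have h1 := (hH ρ hρ y hy).1
      obtain ⟨e, he, z, hz, e1⟩ := D.mem_TT.1 ((hker _ (mul_mem h1 (inv_mem hy))).1 (by
        rw [hp _ h1 _ (inv_mem hy), hp.inv hy, (hH ρ hρ y hy).2, hρ1, one_mul, add_neg_cancel]))
      exact ⟨z, hz, by
        rw [e1, (D.E_Q he hz).eq, inv_mul_cancel_left]; exact mem_Cs.2 fun _ => D.E_Q he⟩)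
    exact ⟨z, hz, _, ⟨S.mul_mem (S.inv_mem (hQS hz)) hy, h1⟩, by group⟩
  set D1 := S ⊓ Cs D.Q with hD1
  have hED : D.E ≤ D1 := fun e he => ⟨hES he, mem_Cs.2 fun _ => D.E_Q he⟩
  have hQD : ∀ z ∈ D.Q, z ∈ D1 → z ∈ D.V := fun z hz h1 =>
    D.ker z hz ((D.toCF.π_eq_zero_iff τ.symp hz).2 (mem_Cs.1 h1.2))
  have hD0 : ∀ d ∈ D1, p d = 0 → ∃ e ∈ D.E, ∃ b, d = e * D.v b := fun d hd h0 => by
    obtain ⟨e, he, z, hz, rfl⟩ := D.mem_TT.1 ((hker d hd.1).1 h0)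
    obtain ⟨b, rfl⟩ := hQD z hz ((mul_mem_cancel_left (hED he)).1 hd)
    exact ⟨e, he, b, rfl⟩
  have hsq : ∀ d ∈ D1, d * d ∈ D.V := fun d hd => by
    obtain ⟨e, he, b, e1⟩ := hD0 _ (mul_mem hd hd) (by rw [hp d hd.1 d hd.1, τ.addF])
    obtain rfl : e = 1 := by_contra fun h1 => hns e he h1 b d e1
    exact ⟨b, by rw [e1, one_mul]⟩
  have hHD : ∀ k ∈ D.H, ∀ d ∈ D1, k * d * k⁻¹ ∈ D1 := fun k hk d hd =>
    ⟨(hH k hk d hd.1).1, mem_normalizer_conj (normalizer_le_normalizer_centralizer _ (D.H_Q hk)) hd.2⟩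
  have xV : ∀ z ∈ D.Q, x' z = 0 := fun z hz => by
    rw [← one_mul z, hc 1 (one_mem _) z hz, hx.one]
  let M : AddSubgroup F :=
    { carrier := {b | ∃ e ∈ D.E, b = x e}
      zero_mem' := ⟨1, one_mem _, hx.one.symm⟩
      add_mem' := by
        rintro _ _ ⟨e, he, rfl⟩ ⟨e', he', rfl⟩
        exact ⟨_, mul_mem he he', (hx e he e' he').symm⟩
      neg_mem' := by
        rintro _ ⟨e, he, rfl⟩
        exact ⟨_, inv_mem he, (hx.inv he).symm⟩ }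
  let f : G → M := fun g => if h : x' g ∈ M then ⟨x' g, h⟩ else 0
  have hf : ∀ g ∈ D.TT, (f g : F) = x' g := fun g hg => by
    obtain ⟨e, he, z, hz, rfl⟩ := D.mem_TT.1 hg
    simp only [f]
    rw [dif_pos ⟨e, he, hc e he z hz⟩]
  obtain ⟨f', f1, f2, f3⟩ := exists_ext (I := D.H) D.H_odd (M := M)
    (fun m => Subtype.ext (τ.addF m)) (A := D1 ⊓ D.TT) (A' := D1) inf_le_left f
    (fun a ha b hb => Subtype.ext (by
      rw [AddSubgroup.coe_add, hf a ha.2, hf b hb.2, hf _ (mul_mem ha.2 hb.2), hx' a ha.2 b hb.2]))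
    (fun d hd => by
      have h1 := D.V_le (hsq d hd)
      exact ⟨⟨mul_mem hd hd, D.Q_le_TT h1⟩, Subtype.ext (by rw [hf _ (D.Q_le_TT h1), xV _ h1]; rfl)⟩)
    D.H.subtype (fun _ m => m) (fun _ _ _ => rfl) (fun _ _ _ => rfl) (fun _ => rfl)
    (fun k a ha => ⟨hHD k k.2 a ha.1, mem_normalizer_conj (D.H_le_TT k.2) ha.2⟩)
    (fun k => hHD k k.2) fun k a ha => Subtype.ext (by
      rw [coe_subtype, hf a ha.2, hf _ (mem_normalizer_conj (D.H_le_TT k.2) ha.2)]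
      obtain ⟨e, he, z, hz, rfl⟩ := D.mem_TT.1 ha.2
      rw [← conj_mul, conj_eq_of_commute (D.E_H he k.2).symm,
        hc e he _ (mem_normalizer_conj (D.H_Q k.2) hz), hc e he z hz])
  have g1 : AddOn D1 fun g => (f' g : F) := fun a ha b hb => by
    simp only [f1 a ha b hb, AddSubgroup.coe_add]
  have g2 : ∀ e ∈ D.E, ∀ b, (f' (e * D.v b) : F) = x e := fun e he b => by
    have h1 : e * D.v b ∈ D.TT := D.mem_TT.2 ⟨e, he, _, D.v_mem b, rfl⟩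
    rw [f2 _ ⟨mul_mem (hED he) ⟨hQS (D.v_mem b), D.Cs_of_α (D.v_mem b) (D.α_v b)⟩, h1⟩, hf _ h1,
      hc e he _ (D.v_mem b)]
  have g3 : ∀ e ∈ D.E, (f' e : F) = x e := fun e he => by simpa [D.v_zero] using g2 e he 0
  have g4 : ∀ d ∈ D1, ∃ e ∈ D.E, ∃ w ∈ g1.ker, d = e * w ∧ (f' d : F) = x e ∧ p d = p w :=
    fun d hd => by
      obtain ⟨e, he, e1⟩ := (f' d).2
      have h1 := mul_mem (inv_mem (hED he)) hd
      refine ⟨e, he, _, ⟨h1, ?_⟩, by group, e1, ?_⟩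
      · have h2 := g1 _ (inv_mem (hED he)) _ hd
        have h3 := g1.inv (hED he)
        simp only at h2 h3
        simp only [h2, h3, g3 e he, e1, neg_add_cancel]
      · rw [hp _ (inv_mem (hES he)) _ hd.1, pT _ (D.E_le_TT (inv_mem he)), zero_add]
  have g5 : ∀ c, ∃ w ∈ g1.ker, p w = c := fun c => by
    obtain ⟨y, hy, rfl⟩ := hps c
    obtain ⟨z, hz, d, hd, rfl⟩ := hdec y hy
    obtain ⟨e, he, w, hw, -, -, e1⟩ := g4 d hd
    exact ⟨w, hw, by rw [hp _ (hQS hz) _ hd.1, pT _ (D.Q_le_TT hz), zero_add, e1]⟩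
  have g6 : ∀ w ∈ g1.ker, p w = 0 → w ∈ D.V := fun w hw h0 => by
    obtain ⟨e, he, b, rfl⟩ := hD0 w hw.1 h0
    rw [hxi e he ((g2 e he b).symm.trans hw.2), one_mul]
    exact D.v_mem_V b
  obtain ⟨a, ha⟩ := D.sq_const (hp.mono (g1.ker_le.trans inf_le_left)) g5 g6
    (fun w hw b => mem_Cs.1 hw.1.2 _ (D.v_mem b)) (fun w hw => hsq w hw.1)
    fun k hk w hw => ⟨⟨hHD k hk w hw.1, by
      have := congrArg Subtype.val (f3 ⟨k, hk⟩ w hw.1)
      exact this.trans hw.2⟩, (hH k hk w hw.1.1).2⟩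
  have hDQ : ∀ d ∈ D1, ∀ z ∈ D.Q, Commute d z := fun d hd => mem_Cs.1 hd.2
  obtain ⟨al, a1, a2⟩ := glue (A := D.Q) (B := D1)
    (fun z hz => centralizer_le_normalizer _ (mem_Cs.2 fun d hd => (hDQ d hd z hz).symm)) D.α
    D.α_add fun z hz hd => by
      obtain ⟨b, rfl⟩ := hQD z hz hd
      exact D.α_v b
  obtain ⟨X, x1, x2⟩ := glue (A := D1) (B := D.Q)
    (fun d hd => centralizer_le_normalizer _ hd.2) _ g1 fun z hd hz => by
      obtain ⟨b, rfl⟩ := hQD z hz hd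
      simpa [hx.one] using g2 1 (one_mem _) b
  have hle : S ≤ D.Q ⊔ D1 := fun y hy => by
    obtain ⟨z, hz, d, hd, rfl⟩ := hdec y hy
    exact mul_mem_sup hz hd
  have x3 : ∀ z ∈ D.Q, ∀ d ∈ D1, X (z * d) = f' d := fun z hz d hd => by
    rw [← (hDQ d hd z hz).eq, x2 d hd z hz]
  have a3 : ∀ d ∈ D1, al d = 0 := fun d hd => by
    rw [← one_mul d, a2 1 (one_mem _) d hd, D.α_add.one]
  have x4 : ∀ d ∈ D1, X d = f' d := fun d hd => by simpa using x3 1 (one_mem _) d hd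
  have p1 : ∀ z ∈ D.Q, ∀ d ∈ D1, p (z * d) = p d := fun z hz d hd => by
    rw [hp _ (hQS hz) _ hd.1, pT _ (D.Q_le_TT hz), zero_add]
  refine ⟨⟨S, al, X, p, a, two, a1.mono hle, x1.mono (hle.trans (sup_comm _ _).le), hp, hES, hQS,
    fun z hz => by simpa using a2 z hz 1 (one_mem _), fun z hz => ?_,
    fun z hz => pT z (D.Q_le_TT hz), fun e he => a3 e (hED he), fun e he => pT e (D.E_le_TT he),
    by rw [x4 _ (hED D.t_mem), g3 _ D.t_mem, hxt],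
    fun e he h0 => hxi e he (by rw [← g3 e he, ← x4 e (hED he), h0]), fun y hy => ?_, fun c => ?_,
    fun y hy h1 h2 h3 => ?_, fun y hy => ?_, fun k hk y hy => ⟨(hH k hk y hy).1, ?_⟩, hO⟩⟩
  · simpa [g1.one] using (x3 z hz 1 (one_mem _)).trans g1.one
  · obtain ⟨z, hz, d, hd, rfl⟩ := hdec y hy
    obtain ⟨e, he, -, -, -, e1, -⟩ := g4 d hd
    exact ⟨e, he, by rw [x3 z hz d hd, e1, x4 e (hED he), g3 e he]⟩
  · obtain ⟨w, hw, e⟩ := g5 c
    exact ⟨w, hw.1.1, a3 w hw.1, (x4 w hw.1).trans hw.2, e⟩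
  · obtain ⟨z, hz, d, hd, rfl⟩ := hdec y hy
    rw [a2 z hz d hd] at h1
    rw [x3 z hz d hd] at h2
    rw [p1 z hz d hd] at h3
    exact mul_mem (D.ker z hz h1) (g6 d ⟨hd, h2⟩ h3)
  · obtain ⟨z, hz, d, hd, rfl⟩ := hdec y hy
    rw [a2 z hz d hd, x3 z hz d hd, p1 z hz d hd, (hDQ d hd z hz).mul_mul_mul_comm,
      D.sq z hz, D.v_add]
    obtain ⟨e, he, w, hw, rfl, e1, e2⟩ := g4 d hd
    rw [e1, e2, show e * w * (e * w) = e * (w * e * w⁻¹) * (w * w) by group, hE w hw.1.1 e he,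
      ← mul_assoc e, D.E_sq e he, one_mul, ha w hw, ← D.v_add]
    congr 2; ring
  · obtain ⟨z, hz, d, hd, rfl⟩ := hdec y hy
    have h1 := mem_normalizer_conj (D.H_Q hk) hz
    have h2 := hHD k hk d hd
    refine ⟨?_, ?_, (hH k hk _ hy).2⟩
    · rw [← conj_mul, a2 _ h1 _ h2, a2 z hz d hd, D.χ_act k hk z hz]
    · rw [← conj_mul, x3 _ h1 _ h2, x3 z hz d hd]
      exact congrArg Subtype.val (f3 ⟨k, hk⟩ d hd)

end Dat

end Cfsg.Lib.StdU3
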