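import Cfsg.Agent.StdU3.Base

/-!
# Standard subgroups of type `U₃(2ⁿ)`: basic facts on the first level
-/

set_option autoImplicit false

namespace Cfsg.Lib.StdU3

open Subgroup Cfsg.Lib.Gold Cfsg.Lib.Trans Cfsg.Lib.StdSz
open scoped commutatorElement

variable {G : Type*} [Group G] {F K : Type*} [Field F] [Field K] [Algebra F K] {τ : Qx F K}

namespace Lev1

variable {D : Dat G τ} (L : Lev1 D)

/-- `W` -/
def W : Subgroup G := L.al_add.ker ⊓ L.x_add.ker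

theorem mem_W {g : G} : g ∈ L.W ↔ g ∈ L.S ∧ L.al g = 0 ∧ L.x g = 0 :=
  ⟨fun h => ⟨h.1.1, h.1.2, h.2.2⟩, fun h => ⟨⟨h.1, h.2.1⟩, h.1, h.2.2⟩⟩

theorem W_le : L.W ≤ L.S := fun _ h => (L.mem_W.1 h).1

/-- `P` -/
def P : Subgroup G := L.x_add.ker

theorem mem_P {g : G} : g ∈ L.P ↔ g ∈ L.S ∧ L.x g = 0 := Iff.rfl

theorem P_le : L.P ≤ L.S := fun _ h => h.1

theorem W_le_P : L.W ≤ L.P := inf_le_right

theorem Q_le_P : D.Q ≤ L.P := fun y hy => ⟨L.Q_le hy, L.x_Q y hy⟩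

theorem t_mem : D.t ∈ L.S := L.E_le D.t_mem

theorem TT_le : D.TT ≤ L.S := sup_le L.E_le L.Q_le

theorem al_t : L.al D.t = 0 := L.al_E _ D.t_mem

theorem p_t : L.p D.t = 0 := L.p_E _ D.t_mem

theorem exists_W (c : F) : ∃ w ∈ L.W, L.p w = c := by
  obtain ⟨w, h1, h2, h3, h4⟩ := L.surj c
  exact ⟨w, L.mem_W.2 ⟨h1, h2, h3⟩, h4⟩

variable [Finite F]

theorem v_mem (b : F) : D.v b ∈ L.S := L.Q_le (D.v_mem b)

theorem al_v (b : F) : L.al (D.v b) = 0 := (L.al_Q _ (D.v_mem b)).trans (D.α_v b)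

theorem x_v (b : F) : L.x (D.v b) = 0 := L.x_Q _ (D.v_mem b)

theorem p_v (b : F) : L.p (D.v b) = 0 := L.p_Q _ (D.v_mem b)

theorem V_le_W : D.V ≤ L.W := by
  rintro _ ⟨b, rfl⟩
  exact L.mem_W.2 ⟨L.v_mem b, L.al_v b, L.x_v b⟩

theorem comm_aux : (∀ g ∈ L.S, ∀ b, Commute g (D.v b)) ∧ ∀ g ∈ L.S, ∀ g' ∈ L.S,
    ⁅g, g'⁆ = D.v (τ.B (L.al g) (L.al g') + (L.x g * L.p g' + L.p g * L.x g')) :=
  comm_of_sq (M := K × F × F) τ.addF (π := fun g => (L.al g, L.x g, L.p g))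
    (fun g hg g' hg' => by simp only [L.al_add g hg g' hg', L.x_add g hg g' hg', L.p_add g hg g' hg',
      Prod.mk_add_mk]) D.v_add L.v_mem (fun b => by simp only [L.al_v, L.x_v, L.p_v]; rfl)
    (fun u => τ.N u.1 + (L.a + u.2.1) * u.2.2)
    (fun u u' => τ.B u.1 u'.1 + (u.2.1 * u'.2.2 + u.2.2 * u'.2.1))
    (fun u u' => by simp only [Prod.fst_add, Prod.snd_add, τ.N_add]; ring) L.sq

theorem comm {g g' : G} (hg : g ∈ L.S) (hg' : g' ∈ L.S) :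
    ⁅g, g'⁆ = D.v (τ.B (L.al g) (L.al g') + (L.x g * L.p g' + L.p g * L.x g')) :=
  L.comm_aux.2 g hg g' hg'

theorem commute_v {g : G} (hg : g ∈ L.S) (b : F) : Commute g (D.v b) := L.comm_aux.1 g hg b

theorem conj_eq {g g' : G} (hg : g ∈ L.S) (hg' : g' ∈ L.S) :
    g * g' * g⁻¹ = D.v (τ.B (L.al g) (L.al g') + (L.x g * L.p g' + L.p g * L.x g')) * g' := by
  rw [← L.comm hg hg', commutatorElement_def, inv_mul_cancel_right]

theorem P_eq : L.P = L.S ⊓ Cs L.W := by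
  refine Subgroup.ext fun g => ⟨fun h => ⟨h.1, mem_Cs.2 fun w hw => ?_⟩, fun h => ⟨h.1, ?_⟩⟩
  · obtain ⟨h1, h2, h3⟩ := L.mem_W.1 hw
    rw [← commutatorElement_eq_one_iff_commute, L.comm h.1 h1, h2, h3, (L.mem_P.1 h).2]
    simpa using D.v_zero
  · obtain ⟨w, hw, e⟩ := L.exists_W 1
    obtain ⟨h1, h2, h3⟩ := L.mem_W.1 hw
    have := (mem_Cs.1 h.2 w hw).commutator_eq
    rw [L.comm h.1 h1, h2, h3, e, D.v_eq_one] at this
    simpa using this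

/-- The commutator frame on `P`. -/
def cfP : CF G τ.B where
  P := L.P
  v := D.v
  π := L.al
  v_add := D.v_add
  v_inj := D.v_inj
  π_add := L.al_add.mono L.P_le
  π_surj a := by
    obtain ⟨y, hy, e⟩ := D.α_surj a
    exact ⟨y, L.Q_le_P hy, (L.al_Q y hy).trans e⟩
  comm g hg g' hg' := by rw [L.comm hg.1 hg'.1, (L.mem_P.1 hg).2, (L.mem_P.1 hg').2]; simp

variable [Finite G]

theorem Ns_le_V : Ns L.S ≤ Ns D.V := fun g hg => mem_Ns (by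
  rintro _ ⟨b, rfl⟩
  obtain ⟨y, hy, e⟩ := D.exists_sq b
  rw [← e, ← conj_sq]
  exact ⟨_, L.sq _ (mem_normalizer_conj hg (L.Q_le hy))⟩)

omit [Finite F] in
theorem H_le : D.H ≤ Ns L.S := fun h hh => mem_Ns fun g hg => (L.H_S h hh g hg).1

omit [Finite F] in
theorem H_le_W : D.H ≤ Ns L.W := fun h hh => mem_Ns fun g hg => by
  obtain ⟨h1, h2, h3⟩ := L.mem_W.1 hg
  obtain ⟨h4, h5, h6, -⟩ := L.H_S h hh g h1
  exact L.mem_W.2 ⟨h4, by rw [h5, h2, mul_zero], h6.trans h3⟩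

omit [Finite F] in
theorem S_le_W : L.S ≤ Ns L.W := fun s hs => mem_Ns fun g hg => by
  obtain ⟨h1, h2, h3⟩ := L.mem_W.1 hg
  exact L.mem_W.2 ⟨mul_mem (mul_mem hs h1) (inv_mem hs), (L.al_add.conj hs h1).trans h2,
    (L.x_add.conj hs h1).trans h3⟩

theorem mem_Ns_P {g : G} (hg : g ∈ Ns L.S) (hW : g ∈ Ns L.W) : g ∈ Ns L.P := mem_Ns fun y hy => by
  rw [P_eq] at hy ⊢
  exact ⟨mem_normalizer_conj hg hy.1,
    mem_normalizer_conj (normalizer_le_normalizer_centralizer _ hW) hy.2⟩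

end Lev1

end Cfsg.Lib.StdU3
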