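import Cfsg.Agent.StdU3.Lev1A

/-!
# Standard subgroups of type `U₃(2ⁿ)`: the first level, normaliser action
-/

set_option autoImplicit false

namespace Cfsg.Lib.StdU3

open Subgroup Cfsg.Lib.Gold Cfsg.Lib.Trans Cfsg.Lib.StdSz
open scoped commutatorElement

variable {G : Type*} [Group G] {F K : Type*} [Field F] [Field K] [Algebra F K] {τ : Qx F K}

/-- The commutator form on `S / V`. -/
def B3 (τ : Qx F K) : LinearMap.BilinForm F (K × F × F) :=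
  LinearMap.mk₂ F (fun u u' => τ.B u.1 u'.1 + (u.2.1 * u'.2.2 + u.2.2 * u'.2.1))
    (fun _ _ _ => by simp only [Prod.fst_add, Prod.snd_add, map_add, LinearMap.add_apply]; ring)
    (fun _ _ _ => by
      simp only [Prod.smul_fst, Prod.smul_snd, smul_eq_mul, map_smul, LinearMap.smul_apply]; ring)
    (fun _ _ _ => by simp only [Prod.fst_add, Prod.snd_add, map_add]; ring)
    (fun _ _ _ => by simp only [Prod.smul_fst, Prod.smul_snd, smul_eq_mul, map_smul]; ring)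

theorem B3_apply (u u' : K × F × F) :
    B3 τ u u' = τ.B u.1 u'.1 + (u.2.1 * u'.2.2 + u.2.2 * u'.2.1) := rfl

theorem symp_B3 (τ : Qx F K) : Symp (B3 τ) where
  alt u := by rw [B3_apply, τ.B_self, zero_add, mul_comm, τ.addF]
  nondeg u h := Prod.ext (τ.eq_zero_of_B fun c => by simpa [B3_apply] using h (c, 0, 0))
    (Prod.ext (by simpa [B3_apply] using h (0, 0, 1)) (by simpa [B3_apply] using h (0, 1, 0)))
  ne := ⟨(1, 0, 0), by simp⟩

namespace Lev1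

variable {D : Dat G τ} (L : Lev1 D) [Finite F]

theorem commute_Q {d : G} (hd : d ∈ L.S) (h : L.al d = 0) : d ∈ Cs D.Q := mem_Cs.2 fun y hy => by
  rw [← commutatorElement_eq_one_iff_commute, L.comm hd (L.Q_le hy), h, L.x_Q y hy, L.p_Q y hy]
  simpa using D.v_zero

theorem al_eq_zero {d : G} (hd : d ∈ L.S) (h : d ∈ Cs D.Q) : L.al d = 0 :=
  τ.eq_zero_of_B fun c => by
    obtain ⟨y, hy, rfl⟩ := D.α_surj c
    have := (mem_Cs.1 h y hy).commutator_eq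
    rw [L.comm hd (L.Q_le hy), L.x_Q y hy, L.p_Q y hy, L.al_Q y hy, D.v_eq_one] at this
    simpa using this

omit [Finite F] in
theorem exists_Q {s : G} (hs : s ∈ L.S) : ∃ y ∈ D.Q, L.al (y⁻¹ * s) = 0 := by
  obtain ⟨y, hy, e⟩ := D.α_surj (L.al s)
  exact ⟨y, hy, by rw [L.al_add _ (inv_mem (L.Q_le hy)) _ hs, L.al_add.inv (L.Q_le hy),
    L.al_Q y hy, e, neg_add_cancel]⟩

theorem inner {s : G} (hs : s ∈ L.S) : ∃ y ∈ D.Q, y⁻¹ * s ∈ Cs D.Q :=
  have ⟨y, hy, e⟩ := L.exists_Q hs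
  ⟨y, hy, L.commute_Q (mul_mem (inv_mem (L.Q_le hy)) hs) e⟩

omit [Finite F] in
theorem Q_sup : D.Q ⊔ L.al_add.ker = L.S :=
  le_antisymm (sup_le L.Q_le L.al_add.ker_le) fun s hs => by
    obtain ⟨y, hy, e⟩ := L.exists_Q hs
    rw [← mul_inv_cancel_left y s]
    exact mul_mem (mem_sup_left hy) (mem_sup_right ⟨mul_mem (inv_mem (L.Q_le hy)) hs, e⟩)

theorem sq_eq_one {g : G} (hg : g ∈ L.S) (h : g * g = 1) :
    τ.N (L.al g) + (L.a + L.x g) * L.p g = 0 := D.v_eq_one.1 ((L.sq g hg).symm.trans h)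

/-- The commutator frame on `S` when `x (E) = F`. -/
def cfS (hx : ∀ c, ∃ e ∈ D.E, L.x e = c) : CF G (B3 τ) where
  P := L.S
  v := D.v
  π g := (L.al g, L.x g, L.p g)
  v_add := D.v_add
  v_inj := D.v_inj
  π_add g hg g' hg' := Prod.ext (L.al_add g hg g' hg')
    (Prod.ext (L.x_add g hg g' hg') (L.p_add g hg g' hg'))
  π_surj u := by
    obtain ⟨y, hy, e1⟩ := D.α_surj u.1
    obtain ⟨e, he, e2⟩ := hx u.2.1
    obtain ⟨w, hw, h1, h2, e3⟩ := L.surj u.2.2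
    have h3 := L.Q_le hy
    have h4 := L.E_le he
    have h5 := mul_mem h4 hw
    refine ⟨y * (e * w), mul_mem h3 h5, Prod.ext ?_ (Prod.ext ?_ ?_)⟩
    · simp [L.al_add _ h3 _ h5, L.al_add _ h4 _ hw, L.al_Q y hy, L.al_E e he, h1, e1]
    · simp [L.x_add _ h3 _ h5, L.x_add _ h4 _ hw, L.x_Q y hy, h2, e2]
    · simp [L.p_add _ h3 _ h5, L.p_add _ h4 _ hw, L.p_Q y hy, L.p_E e he, e3]
  comm _ hg _ hg' := L.comm hg hg'

variable [Finite G]

theorem le_Tr0 : L.S ≤ D.Tr0 := fun s hs => by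
  have h : ∀ y ∈ D.Q, s * y * s⁻¹ ∈ D.Q := fun y hy =>
    L.conj_eq hs (L.Q_le hy) ▸ mul_mem (D.v_mem _) hy
  exact ⟨mem_Ns h, fun y hy => by
    rw [← L.al_Q _ (h y hy), L.al_add.conj hs (L.Q_le hy), L.al_Q y hy]⟩

/-- TERM -/
theorem term {g e : G} (hg : g ∈ Ns L.S) (he : e ∈ D.E) (h0 : e ≠ 1)
    (h1 : L.al (g * e * g⁻¹) = 0) (h2 : L.p (g * e * g⁻¹) = 0) :
    ∃ w ∈ L.W, w⁻¹ * g ∈ Ns D.E := by
  have h3 := mem_normalizer_conj hg (L.E_le he)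
  obtain ⟨e', he', e1⟩ := L.x_range _ h3
  have h4 := inv_mem (L.E_le he')
  obtain ⟨b, e2⟩ := L.ker _ (mul_mem h4 h3)
    (by rw [L.al_add _ h4 _ h3, h1, L.al_E _ (inv_mem he'), add_zero])
    (by rw [L.x_add _ h4 _ h3, e1, L.x_add.inv (L.E_le he'), neg_add_cancel])
    (by rw [L.p_add _ h4 _ h3, h2, L.p_E _ (inv_mem he'), add_zero])
  have h5 : L.x e' ≠ 0 := fun h => D.not_conj_V he h0 g ⟨b, by
    rw [← e2, L.x_inj e' he' h, inv_one, one_mul]⟩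
  obtain ⟨w, hw, e3⟩ := L.exists_W (b / L.x e')
  obtain ⟨k1, k2, k3⟩ := L.mem_W.1 hw
  refine ⟨w, hw, D.E_ti he h0 ?_⟩
  have e4 := L.conj_eq k1 (L.E_le he')
  rw [k2, k3, e3, map_zero, LinearMap.zero_apply, zero_mul, zero_add, zero_add,
    div_mul_cancel₀ _ h5, ← (L.commute_v (L.E_le he') b).eq, ← e2, mul_inv_cancel_left] at e4
  rwa [show w⁻¹ * g * e * (w⁻¹ * g)⁻¹ = w⁻¹ * (g * e * g⁻¹) * w by group, ← e4,
    show w⁻¹ * (w * e' * w⁻¹) * w = e' by group]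

theorem Ns_le_W {c : F} (hc : ∀ e ∈ D.E, L.x e ≠ c) : Ns L.S ≤ Ns L.W := fun g hg =>
  mem_Ns fun y hy => by
    obtain ⟨k1, k2, k3⟩ := L.mem_W.1 hy
    have h1 := mem_normalizer_conj hg k1
    have key : ∀ b, (∃ s ∈ L.S, ⁅g * y * g⁻¹, s⁆ = g * D.v b * g⁻¹) →
        ∃ e ∈ D.E, L.p y * L.x e = b := by
      rintro b ⟨s, hs, e⟩
      have h2 := mem_normalizer_conj' hg hs
      obtain ⟨e', he', e1⟩ := L.x_range _ h2
      rw [show s = g * (g⁻¹ * s * g) * g⁻¹ by group, ← conjugate_commutatorElement, mul_left_inj,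
        mul_right_inj, L.comm k1 h2, k2, k3, e1] at e
      exact ⟨e', he', by simpa using D.v_inj e⟩
    by_contra hn
    have all : ∀ b, ∃ e ∈ D.E, L.p y * L.x e = b := fun b => key b (by
      obtain ⟨b', e⟩ := mem_normalizer_conj (L.Ns_le_V hg) (D.v_mem_V b)
      rw [e]
      by_cases ha : L.al (g * y * g⁻¹) = 0
      · have hx : L.x (g * y * g⁻¹) ≠ 0 := fun h => hn (L.mem_W.2 ⟨h1, ha, h⟩)
        obtain ⟨w, hw, e3⟩ := L.exists_W (b' / L.x (g * y * g⁻¹))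
        obtain ⟨l1, -, l3⟩ := L.mem_W.1 hw
        exact ⟨w, l1, by rw [L.comm h1 l1, ha, l3, e3, mul_div_cancel₀ _ hx]; simp⟩
      · obtain ⟨k, rfl⟩ := τ.exists_B ha b'
        obtain ⟨s, hs, rfl⟩ := D.α_surj k
        exact ⟨s, L.Q_le hs, by
          rw [L.comm h1 (L.Q_le hs), L.x_Q s hs, L.p_Q s hs, L.al_Q s hs]; simp⟩)
    obtain ⟨e, -, e1⟩ := all 1
    obtain ⟨e', he', e2⟩ := all (L.p y * c)
    exact hc e' he' (mul_left_cancel₀ (left_ne_zero_of_mul_eq_one e1) e2)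

theorem x_conj_ne {g e : G} (hg : g ∈ Ns L.S) (hW : g ∈ Ns L.W) (he : e ∈ D.E) (h0 : e ≠ 1) :
    L.x (g * e * g⁻¹) ≠ 0 := fun h => h0 (L.x_inj e he (by
  simpa [mul_assoc] using (L.mem_P.1 (mem_normalizer_conj' (L.mem_Ns_P hg hW)
    (L.mem_P.2 ⟨mem_normalizer_conj hg (L.E_le he), h⟩))).2))

theorem al_conj (ha : L.a ≠ 0) {g e : G} (hg : g ∈ Ns L.S) (hW : g ∈ Ns L.W) (he : e ∈ D.E) :
    L.al (g * e * g⁻¹) = 0 :=
  have h1 := mem_normalizer_conj hg (L.E_le he)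
  L.al_eq_zero h1 (D.tw L.cfP rfl L.Q_le_P L.al_Q
    (fun z hz h h2 => L.ker z hz.1 h hz.2 (by
      have := L.sq_eq_one hz.1 h2
      rw [show L.al z = 0 from h, show L.x z = 0 from hz.2] at this
      simpa [ha] using this))
    (fun h hh x hx => have ⟨k1, k2, k3, _⟩ := L.H_S h hh x hx.1; ⟨⟨k1, k3.trans hx.2⟩, k2⟩)
    (L.mem_Ns_P hg hW) (fun _ => D.E_H he) (L.inner h1))

theorem inv (h2 : D.E2) (ha : L.a = 1) : Inv D L.W where
  E2 := h2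
  two := L.two.to_le L.W_le
  inv w hw := by
    obtain ⟨k1, k2, k3⟩ := L.mem_W.1 hw
    have e := L.conj_eq L.t_mem k1
    have e' := L.sq w k1
    rw [D.t_inv, k2, k3, L.x_t] at e
    rw [k2, k3, ha] at e'
    simp only [map_zero, mul_zero, add_zero, zero_add, one_mul, τ.N_zero] at e e'
    rw [e, eq_inv_iff_mul_eq_one, mul_assoc, e', D.v_sq]
  cQ w hw := mem_Cs.1 (L.commute_Q (L.W_le hw) (L.mem_W.1 hw).2.1)
  O_c o ho w hw := L.O_S o ho w (L.W_le hw)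
  H_le := L.H_le_W
  root b := by
    obtain ⟨w, hw, e⟩ := L.exists_W b
    obtain ⟨k1, k2, k3⟩ := L.mem_W.1 hw
    exact ⟨w, hw, by rw [L.sq w k1, k2, k3, ha, e]; simp⟩

theorem term_of_ne (ha : L.a ≠ 0) {g : G} (hg : g ∈ Ns L.S) (hW : g ∈ Ns L.W) :
    (∃ w ∈ L.W, w⁻¹ * g ∈ Ns D.E) ∨ Inv D L.W := by
  by_cases h : ∃ e ∈ D.E, e ≠ 1 ∧ L.p (g * e * g⁻¹) = 0
  · obtain ⟨e, he, h0, h⟩ := h
    exact .inl (L.term hg he h0 (L.al_conj ha hg hW he) h)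
  push Not at h
  have key : ∀ e ∈ D.E, e ≠ 1 → L.x (g * e * g⁻¹) = L.a := fun e he h0 => by
    have := L.sq_eq_one (mem_normalizer_conj hg (L.E_le he)) (by rw [conj_sq, D.E_sq e he]; simp)
    rw [L.al_conj ha hg hW he, τ.N_zero, zero_add, mul_eq_zero_iff_right (h e he h0)] at this
    exact (τ.add_eq_zeroF.1 this).symm
  have h2 : D.E2 := fun e he => by
    by_contra hn
    rw [not_or] at hn
    have := key _ (mul_mem he D.t_mem) fun k => hn.2 (by rw [eq_inv_of_mul_eq_one_left k, D.t_inv])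
    rw [← conj_mul, L.x_add _ (mem_normalizer_conj hg (L.E_le he)) _
      (mem_normalizer_conj hg L.t_mem), key e he hn.1, key _ D.t_mem D.t_ne, τ.addF] at this
    exact ha this.symm
  refine .inr (L.inv h2 ?_)
  obtain ⟨e, he, e1⟩ := L.x_range _ (mem_normalizer_conj hg L.t_mem)
  rw [key _ D.t_mem D.t_ne] at e1
  rcases h2 e he with rfl | rfl
  · exact absurd (e1.trans L.x_add.one) ha
  · exact e1.trans L.x_t

theorem term_of_surj (hx : ∀ c, ∃ e ∈ D.E, L.x e = c) (ha : L.a ≠ 0) {g : G} (hg : g ∈ Ns L.S) :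
    ∃ w ∈ L.W, w⁻¹ * g ∈ Ns D.E := by
  obtain ⟨σ, -, f, -, h1, -, h2, -⟩ := (L.cfS hx).act (symp_B3 τ) hg
  obtain ⟨z, z0, z1⟩ := exists_ne_01 D.big
  obtain ⟨e, he, e1⟩ := hx (σ.symm z)
  have k1 := h2 _ L.t_mem
  have k2 := h2 _ (L.E_le he)
  have k3 : (L.cfS hx).π e = σ.symm z • (L.cfS hx).π D.t := by
    simp [cfS, L.al_E e he, L.p_E e he, L.al_t, L.p_t, L.x_t, e1]
  rw [k3, h1, ← k1, σ.apply_symm_apply] at k2
  simp only [cfS, Prod.smul_mk, Prod.mk.injEq, smul_eq_mul] at k2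
  have s1 := L.sq_eq_one (mem_normalizer_conj hg L.t_mem) (by rw [conj_sq, D.t_sq]; simp)
  have s2 := L.sq_eq_one (mem_normalizer_conj hg (L.E_le he)) (by rw [conj_sq, D.E_sq e he]; simp)
  rw [k2.1, k2.2.1, k2.2.2, τ.N_smul] at s2
  have s3 : L.p (g * D.t * g⁻¹) = 0 := by
    have : z * (1 - z) * L.a * L.p (g * D.t * g⁻¹) = 0 := by linear_combination s2 - z * z * s1
    simpa [z0, ha, sub_eq_zero, z1.symm] using this
  rw [s3, mul_zero, add_zero, τ.N_eq_zero] at s1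
  exact L.term hg D.t_mem D.t_ne s1 s3

end Lev1

end Cfsg.Lib.StdU3
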