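import Cfsg.Agent.StdU3.Lev1B
import Cfsg.Agent.StdU3.BaseSV

/-!
# Standard subgroups of type `U₃(2ⁿ)`: the case division on the first level
-/

set_option autoImplicit false

namespace Cfsg.Lib.StdU3

open Subgroup Cfsg.Lib.Gold Cfsg.Lib.Trans Cfsg.Lib.StdSz
open scoped commutatorElement

variable {G : Type*} [Group G] {F K : Type*} [Field F] [Field K] [Algebra F K] {τ : Qx F K}
variable [Finite G] [Finite F] [Finite K]

namespace Lev1

variable {D : Dat G τ} (L : Lev1 D)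

theorem sv_term (h : ∀ g ∈ Ns L.S, ∃ w ∈ L.W, w⁻¹ * g ∈ Ns D.E) : D.SV :=
  D.sv_of L.two L.TT_le (fun _ => L.inner) D.V (fun a ha => ⟨_, L.sq a ha⟩) (fun _ hz _ => hz)
    (Z := L.al_add.ker) (fun _ hz => ⟨hz.1, L.commute_Q hz.1 hz.2⟩)
    (fun _ hz _ hz' => ⟨_, L.comm hz.1 hz'.1⟩)
    (fun _ hd _ _ k _ => absurd ⟨hd.1, L.al_eq_zero hd.1 hd.2⟩ k)
    (fun _ hg _ hd _ _ => L.le_Tr0 (mem_normalizer_conj (L.Q_sup ▸ hg) hd.1))
    fun g hg => have ⟨w, hw, e⟩ := h g hg; ⟨w, L.W_le hw, e⟩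

/-- The case division, given the special case. -/
theorem cases_of (special : (∀ c, ∃ e ∈ D.E, L.x e = c) → L.a = 0 →
    (∀ g ∈ Ns L.S, (∀ w ∈ L.S, L.al w = 0 → L.x w = 0 →
      L.al (g * w * g⁻¹) = 0 ∧ L.x (g * w * g⁻¹) = 0) → ∀ e ∈ D.E, L.al (g * e * g⁻¹) = 0) →
    D.SV) : D.SV ∨ (∃ W, Inv D W) ∨
      (L.a = 0 ∧ ∃ g ∈ Ns L.S, g ∈ Ns L.W ∧ ∃ e ∈ D.E, L.al (g * e * g⁻¹) ≠ 0) := by
  by_contra hn
  simp only [not_or, not_and, not_exists, not_not] at hn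
  obtain ⟨h1, h2, h3⟩ := hn
  by_cases hx : ∀ c, ∃ e ∈ D.E, L.x e = c
  · by_cases ha : L.a = 0
    · exact h1 (special hx ha fun g hg h => h3 ha g hg (mem_Ns fun w hw =>
        have ⟨k1, k2, k3⟩ := L.mem_W.1 hw
        L.mem_W.2 ⟨mem_normalizer_conj hg k1, h w k1 k2 k3⟩))
    · exact h1 (L.sv_term fun g => L.term_of_surj hx ha)
  push Not at hx
  obtain ⟨c, hc⟩ := hx
  refine h1 (L.sv_term fun g hg => ?_)
  have hW := L.Ns_le_W hc hg
  by_cases ha : L.a = 0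
  · have k1 := h3 ha g hg hW _ D.t_mem
    have k2 := L.sq_eq_one (mem_normalizer_conj hg L.t_mem) (by rw [conj_sq, D.t_sq]; simp)
    rw [k1, ha, τ.N_zero, zero_add, zero_add,
      mul_eq_zero_iff_left (L.x_conj_ne hg hW D.t_mem D.t_ne)] at k2
    exact L.term hg D.t_mem D.t_ne k1 k2
  · exact (L.term_of_ne ha hg hW).resolve_right (h2 _)

end Lev1

end Cfsg.Lib.StdU3
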