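import Cfsg.Agent.StdU3.Lev1A

/-!
# Standard subgroups of type `U₃(2ⁿ)`: the 2-subgroup of the second level
-/

set_option autoImplicit false

namespace Cfsg.Lib.StdU3

open Subgroup Cfsg.Lib.Gold Cfsg.Lib.Trans Cfsg.Lib.StdSz
open scoped commutatorElement

variable {G : Type*} [Group G] {F K : Type*} [Field F] [Field K] [Algebra F K] {τ : Qx F K}

namespace Lev1

variable {D : Dat G τ} (L : Lev1 D) [Finite F]

/-- The elements of `N(S) ∩ N(W)` acting trivially on `V`, `P / W` and `S / P`. -/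
def Y2 : Subgroup G where
  carrier := {y | y ∈ Ns L.S ∧ y ∈ Ns L.W ∧ (∀ b, Commute y (D.v b)) ∧
    (∀ z ∈ L.S, L.x z = 0 → L.al (y * z * y⁻¹) = L.al z) ∧ ∀ s ∈ L.S, L.x (y * s * y⁻¹) = L.x s}
  one_mem' := ⟨one_mem _, one_mem _, fun _ => Commute.one_left _, fun z _ _ => by simp,
    fun z _ => by simp⟩
  mul_mem' := fun {y y'} h h' => ⟨mul_mem h.1 h'.1, mul_mem h.2.1 h'.2.1,
    fun b => (h.2.2.1 b).mul_left (h'.2.2.1 b), fun z hz h0 => by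
      rw [← h'.2.2.2.1 z hz h0, ← h.2.2.2.1 _ (mem_normalizer_conj h'.1 hz)
        ((h'.2.2.2.2 z hz).trans h0)]; congr 1; group, fun z hz => by
      rw [← h'.2.2.2.2 z hz, ← h.2.2.2.2 _ (mem_normalizer_conj h'.1 hz)]; congr 1; group⟩
  inv_mem' := fun {y} h => by
    have h1 : ∀ s ∈ L.S, L.x (y⁻¹ * s * y⁻¹⁻¹) = L.x s := fun z hz => by
      rw [← h.2.2.2.2 _ (mem_normalizer_conj (inv_mem h.1) hz)]; congr 1; group
    exact ⟨inv_mem h.1, inv_mem h.2.1, fun b => (h.2.2.1 b).inv_left, fun z hz h0 => by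
      rw [← h.2.2.2.1 _ (mem_normalizer_conj (inv_mem h.1) hz) ((h1 z hz).trans h0)]
      congr 1; group, h1⟩

/-- The new coordinate. -/
def ka (y : G) : K := L.al (y * D.t * y⁻¹)

variable {L}

theorem conj_comm_Y2 {y s s' : G} (hy : y ∈ L.Y2) (hs : s ∈ L.S) (hs' : s' ∈ L.S) :
    τ.B (L.al (y * s * y⁻¹)) (L.al (y * s' * y⁻¹)) +
      (L.x s * L.p (y * s' * y⁻¹) + L.p (y * s * y⁻¹) * L.x s') =
      τ.B (L.al s) (L.al s') + (L.x s * L.p s' + L.p s * L.x s') := by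
  have h := L.comm (mem_normalizer_conj hy.1 hs) (mem_normalizer_conj hy.1 hs')
  rw [conj_comm, L.comm hs hs', conj_eq_of_commute (hy.2.2.1 _), hy.2.2.2.2 s hs,
    hy.2.2.2.2 s' hs'] at h
  exact (D.v_inj h).symm

theorem p_conj {y z : G} (hy : y ∈ L.Y2) (hz : z ∈ L.P) :
    L.p (y * z * y⁻¹) = L.p z + τ.B (L.ka y) (L.al z) := by
  have h := conj_comm_Y2 hy L.t_mem hz.1
  rw [hy.2.2.2.1 z hz.1 hz.2, (L.mem_P.1 hz).2, L.x_t, L.al_t, map_zero, LinearMap.zero_apply] at h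
  rw [ka]
  linear_combination h - τ.B (L.al (y * D.t * y⁻¹)) (L.al z) * τ.two

theorem al_conj_E {y e : G} (hy : y ∈ L.Y2) (he : e ∈ D.E) :
    L.al (y * e * y⁻¹) = L.x e • L.ka y := by
  refine τ.add_eq_zeroK.1 (τ.eq_zero_of_B fun a => ?_)
  obtain ⟨z, hz, rfl⟩ := L.cfP.π_surj a
  change z ∈ L.P at hz
  change τ.B _ (L.al z) = 0
  have h := conj_comm_Y2 hy (L.E_le he) hz.1
  rw [hy.2.2.2.1 z hz.1 hz.2, (L.mem_P.1 hz).2, p_conj hy hz, L.al_E e he, map_zero,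
    LinearMap.zero_apply] at h
  rw [map_add, map_smul, LinearMap.add_apply, LinearMap.smul_apply, smul_eq_mul]
  linear_combination h

omit [Finite F] in
theorem ka_add : AddOn L.Y2 L.ka := fun y hy y' hy' => by
  have h1 := mem_normalizer_conj hy'.1 L.t_mem
  have h2 := mul_mem h1 (inv_mem L.t_mem)
  have h3 : L.x (y' * D.t * y'⁻¹ * D.t⁻¹) = 0 := by
    rw [L.x_add _ h1 _ (inv_mem L.t_mem), hy'.2.2.2.2 _ L.t_mem, L.x_add.inv L.t_mem, add_neg_cancel]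
  have h4 := hy.2.2.2.1 _ h2 h3
  rw [L.al_add _ h1 _ (inv_mem L.t_mem), L.al_add.inv L.t_mem, L.al_t, neg_zero, add_zero] at h4
  rw [ka, ka, ka, ← h4, add_comm, ← L.al_add _ (mem_normalizer_conj hy.1 h2) _
    (mem_normalizer_conj hy.1 L.t_mem)]
  congr 1; group

omit [Finite F] in
theorem ka_H {y h : G} (hy : y ∈ L.Y2) (hh : h ∈ D.H) : L.ka (h * y * h⁻¹) = D.χ h * L.ka y := by
  rw [ka, ka, ← (L.H_S h hh _ (mem_normalizer_conj hy.1 L.t_mem)).2.1]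
  congr 1
  calc _ = h * y * (h⁻¹ * D.t * h⁻¹⁻¹) * y⁻¹ * h⁻¹ := by group
    _ = _ := by rw [conj_eq_of_commute (D.t_H h hh).inv_left]; group

omit [Finite F] in
theorem ka_S {s : G} (hs : s ∈ L.S) : L.ka s = 0 := (L.al_add.conj hs L.t_mem).trans L.al_t

variable [Finite G]

variable (L) in
theorem S_le_Y2 : L.S ≤ L.Y2 := fun _ hs => ⟨le_normalizer hs, L.S_le_W hs, L.commute_v hs,
  fun _ hz _ => L.al_add.conj hs hz, fun _ hz => L.x_add.conj hs hz⟩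

variable (L) in
theorem O_le_Y2 : D.O ≤ L.Y2 := fun o ho =>
  have h : ∀ s ∈ L.S, o * s * o⁻¹ = s := fun s hs => conj_eq_of_commute (L.O_S o ho s hs)
  ⟨mem_Ns fun s hs => (h s hs).symm ▸ hs, mem_Ns fun s hs => (h s (L.W_le hs)).symm ▸ hs,
    fun b => L.O_S o ho _ (L.v_mem b), fun z hz _ => by rw [h z hz], fun z hz => by rw [h z hz]⟩

variable (L) in
theorem H_le_Y2 : D.H ≤ Ns L.Y2 := fun h hh => mem_Ns fun y hy => by
  have hS := L.H_le hh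
  have hW := L.H_le_W hh
  refine ⟨mul_mem (mul_mem hS hy.1) (inv_mem hS), mul_mem (mul_mem hW hy.2.1) (inv_mem hW),
    fun b => ?_, fun z hz h0 => ?_, fun z hz => ?_⟩
  · have := commute_conj (hy.2.2.1 (τ.N (D.χ h⁻¹) * b)) h
    rwa [← D.H_v (inv_mem hh), show h * (h⁻¹ * D.v b * h⁻¹⁻¹) * h⁻¹ = D.v b by group] at this
  · obtain ⟨h1, -, h2, -⟩ := L.H_S _ (inv_mem hh) z hz
    have h3 := (L.H_S h hh _ (mem_normalizer_conj hy.1 h1)).2.1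
    rw [hy.2.2.2.1 _ h1 (h2.trans h0), ← (L.H_S h hh _ h1).2.1] at h3
    convert h3 using 2 <;> group
  · obtain ⟨h1, -, h2, -⟩ := L.H_S _ (inv_mem hh) z hz
    have h3 := (L.H_S h hh _ (mem_normalizer_conj hy.1 h1)).2.2.1
    rw [hy.2.2.2.2 _ h1, h2] at h3
    convert h3 using 2
    group

theorem ka_ker (ha : L.a = 0) {y : G} (hy : y ∈ L.Y2) (h : L.ka y = 0) :
    ∃ s ∈ L.S, ∃ o ∈ D.O, y = s * o := by
  have h1 := mem_normalizer_conj hy.1 L.t_mem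
  have h2 := L.sq _ h1
  rw [conj_sq, D.t_sq, mul_one, mul_inv_cancel, eq_comm, D.v_eq_one, show L.al _ = 0 from h,
    hy.2.2.2.2 _ L.t_mem, L.x_t, ha, τ.N_zero, zero_add, zero_add, one_mul] at h2
  obtain ⟨b, hb⟩ := L.ker _ (mul_mem h1 L.t_mem)
    (by rw [L.al_add _ h1 _ L.t_mem, show L.al _ = 0 from h, L.al_t, add_zero])
    (by rw [L.x_add _ h1 _ L.t_mem, hy.2.2.2.2 _ L.t_mem, τ.addF])
    (by rw [L.p_add _ h1 _ L.t_mem, h2, L.p_t, add_zero])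
  obtain ⟨w, hw, e⟩ := L.exists_W b
  obtain ⟨h3, h4, h5⟩ := L.mem_W.1 hw
  have h6 := L.conj_eq h3 L.t_mem
  rw [h4, h5, e, L.x_t, map_zero, LinearMap.zero_apply, zero_mul, zero_add, zero_add, mul_one, ← hb,
    mul_assoc (y * D.t * y⁻¹) D.t, D.t_sq, mul_one] at h6
  have h7 : Commute (w⁻¹ * y) D.t := commute_of_conj_eq (by
    rw [show w⁻¹ * y * D.t * (w⁻¹ * y)⁻¹ = w⁻¹ * (y * D.t * y⁻¹) * w by group, ← h6]; group)
  have h8 := mul_mem (inv_mem (L.S_le_Y2 h3)) hy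
  obtain ⟨e, he, x, hx, o, ho, h9⟩ := D.cent _ h7 ⟨D.mem_Ns_Q (D.mem_Ns_E h7) (L.Ns_le_V h8.1),
    fun x hx => by
      have hx' := mem_normalizer_conj (D.mem_Ns_Q (D.mem_Ns_E h7) (L.Ns_le_V h8.1)) hx
      rw [← L.al_Q _ hx', ← L.al_Q _ hx, h8.2.2.2.1 x (L.Q_le hx) (L.x_Q x hx)]⟩
  exact ⟨w * (e * x), mul_mem h3 (mul_mem (L.E_le he) (L.Q_le hx)), o, ho, by
    rw [mul_assoc, ← h9, mul_inv_cancel_left]⟩

theorem exists_ka_ne (ha : L.a = 0) {g e : G} (hg : g ∈ Ns L.S) (hW : g ∈ Ns L.W) (he : e ∈ D.E)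
    (h : L.al (g * e * g⁻¹) ≠ 0) : ∃ c ∈ L.Y2, (∀ o ∈ D.O, Commute o c) ∧ L.ka c ≠ 0 := by
  have hP := L.mem_Ns_P hg hW
  obtain ⟨σ, μ, f, hμ, h1, -, h2, h3⟩ := L.cfP.act τ.symp hP
  replace h2 : ∀ z ∈ L.P, L.al (g * z * g⁻¹) = f (L.al z) := h2
  replace h3 : ∀ b, g * D.v b * g⁻¹ = D.v (μ * σ b) := h3
  obtain ⟨l, hl0, hl1⟩ := exists_ne_01 D.big
  obtain ⟨k, hk, ek⟩ := D.χ_F l hl0
  obtain ⟨k', hk', ek'⟩ := D.χ_F (σ l) ((map_ne_zero σ).2 hl0)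
  have hkS := L.H_le hk
  have hkS' := L.H_le hk'
  have hc : g * k * g⁻¹ * k'⁻¹ ∈ L.Y2 := by
    refine ⟨mul_mem (mul_mem (mul_mem hg hkS) (inv_mem hg)) (inv_mem hkS'),
      mul_mem (mul_mem (mul_mem hW (L.H_le_W hk)) (inv_mem hW)) (inv_mem (L.H_le_W hk')),
      fun b => ?_, fun z hz h0 => ?_, fun z hz => ?_⟩
    · obtain ⟨b', rfl⟩ : ∃ b', b = σ l * σ l * (μ * σ b') := ⟨σ.symm (b / (σ l * σ l * μ)), by
        have := (map_ne_zero σ).2 hl0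
        rw [RingEquiv.apply_symm_apply]; field_simp⟩
      have e1 := D.H_v hk' (μ * σ b')
      have e2 := D.H_v hk b'
      rw [ek', τ.N_alg] at e1
      rw [ek, τ.N_alg] at e2
      refine commute_of_conj_eq ?_
      calc _ = g * (k * (g⁻¹ * (k'⁻¹ * D.v (σ l * σ l * (μ * σ b')) * k') * g) * k⁻¹) * g⁻¹ := by group
        _ = g * (k * D.v b' * k⁻¹) * g⁻¹ := by rw [← e1, ← h3]; group
        _ = _ := by rw [e2, h3, map_mul, map_mul]; congr 1; ring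
    · have hP' := L.mem_Ns_P hkS' (L.H_le_W hk')
      obtain ⟨z, rfl⟩ : ∃ z', z = k' * (g * z' * g⁻¹) * k'⁻¹ := ⟨g⁻¹ * (k'⁻¹ * z * k') * g, by group⟩
      have hz' : z ∈ L.P := (mem_normalizer_iff.1 hP z).2 ((mem_normalizer_iff.1 hP' _).2 ⟨hz, h0⟩)
      rw [(L.H_S k' hk' _ (mem_normalizer_conj hg hz'.1)).2.1, h2 z hz', ek', ← Algebra.smul_def,
        ← h1, Algebra.smul_def, ← ek, ← (L.H_S k hk z hz'.1).2.1,
        ← h2 _ (mem_normalizer_conj (L.mem_Ns_P hkS (L.H_le_W hk)) hz')]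
      congr 1; group
    · obtain ⟨z, rfl⟩ : ∃ z', z = k' * (g * z' * g⁻¹) * k'⁻¹ := ⟨g⁻¹ * (k'⁻¹ * z * k') * g, by group⟩
      have hz' : z ∈ L.S := (mem_normalizer_iff.1 hg z).2 ((mem_normalizer_iff.1 hkS' _).2 hz)
      obtain ⟨e1, -, e2, -⟩ := L.H_S k hk z hz'
      have e3 : k * z * k⁻¹ * z⁻¹ ∈ L.P := ⟨mul_mem e1 (inv_mem hz'), by
        rw [L.x_add _ e1 _ (inv_mem hz'), e2, L.x_add.inv hz', add_neg_cancel]⟩
      have e4 := mem_normalizer_conj hP e3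
      have e5 := L.x_add _ e4.1 _ (mem_normalizer_conj hg hz')
      rw [(L.mem_P.1 e4).2, zero_add] at e5
      rw [(L.H_S k' hk' _ (mem_normalizer_conj hg hz')).2.2.1, ← e5]
      congr 1; group
  refine ⟨_, hc, fun o ho => D.scalar_O (D.Ns_le_O L.TT_le L.O_S hg) hk hk' ho, fun h0 => ?_⟩
  obtain ⟨s, hs, o, ho, e1⟩ := ka_ker ha hc h0
  obtain ⟨e2, e3, -⟩ := L.H_S k' hk' _ (mem_normalizer_conj hg (L.E_le he))
  have e4 := L.al_add.conj hs e2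
  rw [← conj_eq_of_commute (L.O_S o ho _ e2), show s * (o * (k' * (g * e * g⁻¹) * k'⁻¹) * o⁻¹) * s⁻¹ =
    s * o * (k' * (g * e * g⁻¹) * k'⁻¹) * (s * o)⁻¹ by group, ← e1,
    conj_eq_of_commute (L.O_S o ho _ e2), e3, show g * k * g⁻¹ * k'⁻¹ * (k' * (g * e * g⁻¹) * k'⁻¹) *
      (g * k * g⁻¹ * k'⁻¹)⁻¹ = g * (k * e * k⁻¹) * g⁻¹ by group,
    conj_eq_of_commute (D.E_H he hk).symm, eq_comm, mul_eq_right₀ h, ek'] at e4
  exact hl1 (σ.injective ((Qx.inj (e4.trans (map_one _).symm)).trans (map_one σ).symm))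

theorem ka_surj (ha : L.a = 0) {g e : G} (hg : g ∈ Ns L.S) (hW : g ∈ Ns L.W) (he : e ∈ D.E)
    (h : L.al (g * e * g⁻¹) ≠ 0) (a : K) : ∃ c ∈ L.Y2, (∀ o ∈ D.O, Commute o c) ∧ L.ka c = a := by
  obtain ⟨c, hc, h1, h2⟩ := exists_ka_ne ha hg hW he h
  let I : AddSubgroup K :=
    { carrier := {a | ∃ c ∈ L.Y2, (∀ o ∈ D.O, Commute o c) ∧ L.ka c = a}
      zero_mem' := ⟨1, one_mem _, fun _ _ => Commute.one_right _, ka_add.one⟩
      add_mem' := by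
        rintro _ _ ⟨c, hc, h, rfl⟩ ⟨c', hc', h', rfl⟩
        exact ⟨_, mul_mem hc hc', fun o ho => (h o ho).mul_right (h' o ho), ka_add _ hc _ hc'⟩
      neg_mem' := by
        rintro _ ⟨c, hc, h, rfl⟩
        exact ⟨_, inv_mem hc, fun o ho => (h o ho).inv_right, ka_add.inv hc⟩ }
  have key : ∀ k ∈ D.H, ∀ a ∈ I, D.χ k * a ∈ I := by
    rintro k hk _ ⟨c, hc, h, rfl⟩
    exact ⟨_, mem_normalizer_conj (L.H_le_Y2 hk) hc, fun o ho =>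
      ((D.O_H o ho k hk).mul_right (h o ho)).mul_right (D.O_H o ho k hk).inv_right, ka_H hc hk⟩
  obtain ⟨ρ, hρ, h3, h4⟩ := D.χ_ω
  refine τ.irred I (fun l a ha => ?_) h3 h4 (key ρ hρ) ⟨c, hc, h1, rfl⟩ h2 a
  by_cases hl : l = 0
  · rw [hl, zero_smul]; exact I.zero_mem
  · obtain ⟨k, hk, ek⟩ := D.χ_F l hl
    rw [Algebra.smul_def, ← ek]
    exact key k hk a ha

theorem commute_W (ha : L.a = 0) {ρ : G} (hρ : ρ ∈ D.H) (h : τ.N (D.χ ρ) = 1) {w : G}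
    (hw : w ∈ L.W) : Commute ρ w := by
  have _ := ha
  obtain ⟨h1, h2, h3⟩ := L.mem_W.1 hw
  obtain ⟨h4, h5, h6, h7⟩ := L.H_S ρ hρ w h1
  obtain ⟨b, hb⟩ := L.ker _ (mul_mem h4 (inv_mem h1))
    (by rw [L.al_add _ h4 _ (inv_mem h1), h5, L.al_add.inv h1, h2, mul_zero, neg_zero, add_zero])
    (by rw [L.x_add _ h4 _ (inv_mem h1), h6, L.x_add.inv h1, add_neg_cancel])
    (by rw [L.p_add _ h4 _ (inv_mem h1), h7, L.p_add.inv h1, h, one_mul, add_neg_cancel])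
  have h8 := D.H_v hρ b
  rw [h, one_mul] at h8
  have h9 : Commute (ρ * ρ) w := commute_of_conj_eq (by
    rw [mul_inv_eq_iff_eq_mul] at hb
    calc _ = ρ * (ρ * w * ρ⁻¹) * ρ⁻¹ := by group
      _ = ρ * D.v b * ρ⁻¹ * (ρ * w * ρ⁻¹) := by nth_rewrite 1 [hb]; group
      _ = _ := by rw [h8, hb, ← mul_assoc, D.v_sq, one_mul])
  obtain ⟨m, hm⟩ := exists_root_of_odd (odd_orderOf D.H_odd hρ) 1
  rw [← pow_two] at h9
  rw [← hm, ← pow_mul, mul_comm, pow_mul]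
  exact h9.pow_left m

/-- The 2-subgroup of the second level. -/
theorem exists_P2 (ha : L.a = 0) {g e : G} (hg : g ∈ Ns L.S) (hW : g ∈ Ns L.W) (he : e ∈ D.E)
    (h : L.al (g * e * g⁻¹) ≠ 0) : ∃ P : Subgroup G, L.P ≤ P ∧ P ≤ L.Y2 ∧ P ≤ Cs L.W ∧
      D.H ≤ Ns P ∧ L.S ≤ Ns P ∧ (∀ y ∈ P, L.ka y = 0 → y ∈ L.P) ∧ ∀ a, ∃ y ∈ P, L.ka y = a := by
  obtain ⟨A, -, h1, h2, h3, -, h4, h5⟩ := D.mk_level τ.addK (N := Ns L.S ⊓ Ns L.Y2) L.two L.TT_le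
    L.O_S inf_le_left L.S_le_Y2 L.O_le_Y2 (fun y hy => ⟨hy.1, le_normalizer hy⟩) inf_le_right L.ka
    ka_add (fun o ho => by rw [ka, conj_eq_of_commute (D.O_t o ho), L.al_t]) fun y => ka_ker ha
  have hH : D.H ≤ Ns A := fun k hk => h3 ⟨L.H_le hk, L.H_le_Y2 hk⟩
  refine ⟨A ⊓ Cs L.W, le_inf (L.P_le.trans h1) (L.P_eq.le.trans inf_le_right), inf_le_left.trans h2,
    inf_le_right, fun k hk => mem_Ns fun y hy => ⟨mem_normalizer_conj (hH hk) hy.1,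
      mem_normalizer_conj (normalizer_le_normalizer_centralizer _ (L.H_le_W hk)) hy.2⟩,
    fun s hs => mem_Ns fun y hy => ⟨mem_normalizer_conj (le_normalizer (h1 hs)) hy.1,
      mem_normalizer_conj (normalizer_le_normalizer_centralizer _ (L.S_le_W hs)) hy.2⟩,
    fun y hy h0 => L.P_eq.ge ⟨h4 y hy.1 h0, hy.2⟩, fun a => ?_⟩
  obtain ⟨ρ, hρ, h6, h7⟩ := D.χ_ω
  have h8 : D.χ ρ + 1 ≠ 0 := fun e => h7 (τ.add_eq_zeroK.1 e)
  obtain ⟨c, hc, h9, e1⟩ := ka_surj ha hg hW he h ((D.χ ρ + 1)⁻¹ * a)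
  obtain ⟨y, hy, e2⟩ := h5 c hc h9
  have hy' := mem_normalizer_conj (hH hρ) hy
  refine ⟨y⁻¹ * (ρ * y * ρ⁻¹), ⟨A.mul_mem (A.inv_mem hy) hy', mem_Cs.2 fun w hw => commute_of_conj_eq ?_⟩,
    ?_⟩
  · have e3 := conj_eq_of_commute (commute_W ha hρ h6 hw).inv_left
    have e4 := conj_eq_of_commute (commute_W ha hρ h6 (mem_normalizer_conj (h2 hy).2.1 hw))
    calc _ = y⁻¹ * (ρ * (y * (ρ⁻¹ * w * ρ⁻¹⁻¹) * y⁻¹) * ρ⁻¹) * y := by group
      _ = _ := by rw [e3, e4]; group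
  · rw [ka_add _ (h2 (inv_mem hy)) _ (h2 hy'), ka_add.inv (h2 hy), ka_H (h2 hy) hρ, τ.negK, e2, e1,
      add_comm, ← add_one_mul, mul_inv_cancel_left₀ h8]

end Lev1

end Cfsg.Lib.StdU3
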